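import Groth.Agent.ParaF.K589.ElkikCert
import Groth.Agent.ParaF.K589.ElkikGeneral
import Mathlib.RingTheory.Noetherian.Basic
import Mathlib.RingTheory.FinitePresentation
/-!
# Elkik approximation for algebras smooth off `V(I)`

`exists_approx`: `A`, `C` Noetherian, `Ch` flat over `C` and henselian along `I`, `B` of finite type
over `A` with `B_a` formally smooth for `a ∈ I`.  For every `n` there is `N` such that every
`A`-algebra map `B → C/I^N` is, modulo `I ^ n`, the reduction of a map `B → Ch`.
-/

set_option autoImplicit false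
universe u v

namespace K73.Approx

open MvPolynomial K589.ElkikNewton

/-- Elkik approximation, for maps modulo powers of `I`. -/
theorem exists_approx (A : Type u) [CommRing A] [IsNoetherianRing A] (I : Ideal A) (B : Type v)
    [CommRing B] [Algebra A B] [Algebra.FiniteType A B]
    (hB : ∀ a ∈ I, Algebra.FormallySmooth A (Localization.Away (algebraMap A B a)))
    (C : Type u) [CommRing C] [IsNoetherianRing C] [Algebra A C]
    (Ch : Type u) [CommRing Ch] [Algebra C Ch] [Module.Flat C Ch] [Algebra A Ch] [IsScalarTower A C Ch]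
    (hh : HenselianRing Ch (I.map (algebraMap A Ch))) (n : ℕ) :
    ∃ N : ℕ, n ≤ N ∧ ∀ φ : B →ₐ[A] (C ⧸ (I.map (algebraMap A C)) ^ N), ∃ ψ : B →ₐ[A] Ch,
      ∀ (b : B) (c : C), φ b = Ideal.Quotient.mk _ c →
        ψ b - algebraMap C Ch c ∈ (I.map (algebraMap A Ch)) ^ n := by
  classical
  obtain ⟨d, π, hπ, hker⟩ := (Algebra.FinitePresentation.of_finiteType (R := A) (A := B)).1 inferInstance
  obtain ⟨m, f, hf⟩ := Submodule.fg_iff_exists_fin_generating_family.1 hker
  have hf' : Ideal.span (Set.range f) = RingHom.ker π := hf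
  let e : (MvPolynomial (Fin d) A ⧸ Ideal.span (Set.range f)) ≃ₐ[A] B :=
    (Ideal.quotientEquivAlgOfEq A hf').trans (Ideal.quotientKerAlgEquivOfSurjective hπ)
  have he : ∀ p, e (Ideal.Quotient.mk _ p) = π p := fun p => rfl
  obtain ⟨s, hs⟩ := (isNoetherianRing_iff_ideal_fg A).1 inferInstance I
  have hT : ∀ T ∈ s.toList, ∃ (k : ℕ) (S : Matrix (Fin d) (Fin m) (MvPolynomial (Fin d) A)),
      Cert T f k S := by
    intro T hTs
    have hTI : T ∈ I := hs ▸ Ideal.subset_span (Finset.mem_coe.2 (Finset.mem_toList.1 hTs))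
    have h1 := hB T hTI
    set Ba := Localization.Away (algebraMap A B T)
    let i1 : Algebra (MvPolynomial (Fin d) A ⧸ Ideal.span (Set.range f)) Ba :=
      ((algebraMap B Ba).comp e.symm.symm.toRingEquiv.toRingHom).toAlgebra
    have i2 : IsScalarTower A (MvPolynomial (Fin d) A ⧸ Ideal.span (Set.range f)) Ba := by
      refine IsScalarTower.of_algebraMap_eq (R := A)
        (S := MvPolynomial (Fin d) A ⧸ Ideal.span (Set.range f)) (A := Ba) fun a => ?_
      change algebraMap A Ba a = algebraMap B Ba
        (e (algebraMap A (MvPolynomial (Fin d) A ⧸ Ideal.span (Set.range f)) a))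
      rw [e.commutes a]
      exact IsScalarTower.algebraMap_apply A B Ba a
    have i3 : IsLocalization.Away (algebraMap A (MvPolynomial (Fin d) A ⧸ Ideal.span (Set.range f)) T)
        Ba := by
      have h3 := IsLocalization.isLocalization_of_base_ringEquiv (Submonoid.powers (algebraMap A B T))
        Ba e.symm.toRingEquiv
      have h4 : (Submonoid.powers (algebraMap A B T)).map (e.symm.toRingEquiv : B →* _) =
          Submonoid.powers (algebraMap A (MvPolynomial (Fin d) A ⧸ Ideal.span (Set.range f)) T) := by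
        rw [Submonoid.map_powers]
        congr 1
        exact e.symm.commutes T
      rw [IsLocalization.Away, ← h4]
      exact h3
    exact K589.ElkikCert.exists_cert_of_formallySmooth T f Ba
  have hlist : Ideal.ofList ((s.toList.map (algebraMap A C)).map (algebraMap C Ch)) =
      I.map (algebraMap A Ch) := by
    rw [List.map_map, ← hs, Ideal.map_span, Ideal.ofList]
    congr 1
    ext x
    simp only [Set.mem_ofPred_eq, List.mem_map, Set.mem_image, Finset.mem_coe, Finset.mem_toList,
      Function.comp, IsScalarTower.algebraMap_apply A C Ch]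
  obtain ⟨N, hN⟩ := K589.ElkikGeneral.exists_solution_of_flat f C Ch (s.toList.map (algebraMap A C))
    (by rw [hlist]; exact hh) s.toList hT n
  rw [hlist] at hN
  refine ⟨max n N, le_max_left _ _, fun φ => ?_⟩
  choose x hx using fun i => Ideal.Quotient.mk_surjective (φ (π (X i)))
  -- evaluation at `x`
  have hφ : ∀ p : MvPolynomial (Fin d) A, φ (π p) = Ideal.Quotient.mk _ (aeval x p) := by
    intro p
    have : (φ.comp π) = (Ideal.Quotient.mkₐ A _).comp (aeval x) := by
      refine MvPolynomial.algHom_ext fun i => ?_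
      simp [hx]
    exact DFunLike.congr_fun this p
  have hmapC : ∀ k : ℕ, ((I.map (algebraMap A C)) ^ k).map (algebraMap C Ch) =
      (I.map (algebraMap A Ch)) ^ k := by
    intro k
    rw [Ideal.map_pow, Ideal.map_map, ← IsScalarTower.algebraMap_eq]
  have hev : ∀ p : MvPolynomial (Fin d) A,
      eval₂ (algebraMap A Ch) (fun i => algebraMap C Ch (x i)) p = algebraMap C Ch (aeval x p) := by
    intro p
    rw [MvPolynomial.aeval_def, MvPolynomial.hom_eval₂, ← IsScalarTower.algebraMap_eq]
  obtain ⟨y, hy0, hyx⟩ := hN (algebraMap A Ch) (by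
    rw [List.map_map]
    refine List.map_congr_left fun a _ => ?_
    exact IsScalarTower.algebraMap_apply A C Ch a) (fun i => algebraMap C Ch (x i)) (by
    intro j
    have h1 : φ (π (f j)) = 0 := by
      rw [show π (f j) = 0 from by
        have : f j ∈ RingHom.ker π := hf' ▸ Ideal.subset_span ⟨j, rfl⟩
        exact this, map_zero]
    rw [hφ, Ideal.Quotient.eq_zero_iff_mem] at h1
    rw [hev, ← hmapC]
    exact Ideal.mem_map_of_mem _ (Ideal.pow_le_pow_right (le_max_right _ _) h1))
  have hker' : ∀ p ∈ RingHom.ker π, (aeval y : MvPolynomial (Fin d) A →ₐ[A] Ch) p = 0 := by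
    intro p hp
    have hle : RingHom.ker π ≤ RingHom.ker (aeval y : MvPolynomial (Fin d) A →ₐ[A] Ch) := by
      rw [← hf', Ideal.span_le]
      rintro _ ⟨j, rfl⟩
      exact hy0 j
    exact hle hp
  refine ⟨Ideal.Quotient.liftₐ _ (aeval y) hker' |>.comp
    (Ideal.quotientKerAlgEquivOfSurjective hπ).symm.toAlgHom, fun b c hbc => ?_⟩
  obtain ⟨p, rfl⟩ := hπ b
  have hψ : (Ideal.Quotient.liftₐ _ (aeval y) hker' |>.comp
    (Ideal.quotientKerAlgEquivOfSurjective hπ).symm.toAlgHom) (π p) = aeval y p := by
    have : (Ideal.quotientKerAlgEquivOfSurjective hπ).symm (π p) = Ideal.Quotient.mk _ p := by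
      rw [AlgEquiv.symm_apply_eq]
      rfl
    change Ideal.Quotient.liftₐ _ (aeval y) hker' ((Ideal.quotientKerAlgEquivOfSurjective hπ).symm (π p)) = _
    rw [this]
    rfl
  rw [hψ]
  rw [hφ, Ideal.Quotient.eq] at hbc
  have h1 : aeval y p - aeval (fun i => algebraMap C Ch (x i)) p ∈ (I.map (algebraMap A Ch)) ^ n := by
    have h2 : (Ideal.Quotient.mkₐ A ((I.map (algebraMap A Ch)) ^ n)).comp (aeval y) =
        (Ideal.Quotient.mkₐ A ((I.map (algebraMap A Ch)) ^ n)).comp
          (aeval (fun i => algebraMap C Ch (x i))) := by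
      refine MvPolynomial.algHom_ext fun i => ?_
      simp only [AlgHom.comp_apply, aeval_X, Ideal.Quotient.mkₐ_eq_mk]
      rw [Ideal.Quotient.eq]
      exact hyx i
    have h3 := DFunLike.congr_fun h2 p
    simp only [AlgHom.comp_apply, Ideal.Quotient.mkₐ_eq_mk] at h3
    exact Ideal.Quotient.eq.1 h3
  have h4 : aeval (fun i => algebraMap C Ch (x i)) p - algebraMap C Ch c ∈
      (I.map (algebraMap A Ch)) ^ n := by
    have : (aeval (fun i => algebraMap C Ch (x i)) : MvPolynomial (Fin d) A →ₐ[A] Ch) p =
        algebraMap C Ch (aeval x p) := hev p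
    rw [this, ← map_sub, ← hmapC]
    exact Ideal.mem_map_of_mem _ (Ideal.pow_le_pow_right (le_max_left _ _) hbc)
  have h5 := add_mem h1 h4
  rwa [sub_add_sub_cancel] at h5

end K73.Approx
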