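import Mathlib.RingTheory.Flat.FaithfullyFlat.Algebra
import Mathlib.LinearAlgebra.TensorProduct.Pi
/-!
# Excision for a faithfully flat algebra which is an isomorphism modulo an ideal

`R → S` faithfully flat, `S = R + 𝔞 S`, `𝔞` generated by `a i` (finitely many), `M` an `R`-module.
* `exists_eq_of_pow`: an element of `S ⊗ M` which lies in `M` after multiplication by powers of the
  `a i` lies in `M`;
* `exists_glue`: elements of `(S ⊗ M)/M` given over the `D(a i)` and compatible glue.
-/

set_option autoImplicit false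
universe u v w x
open TensorProduct

namespace K73.Excis

/-- The cokernel of a faithfully flat ring map is flat. -/
theorem flat_coker (R : Type u) (S : Type v) [CommRing R] [CommRing S] [Algebra R S]
    [Module.FaithfullyFlat R S] :
    Module.Flat R (S ⧸ LinearMap.range (Algebra.linearMap R S)) := by
  rw [Module.Flat.iff_lTensor_preserves_injective_linearMap]
  intro N N' _ _ _ _ f hf
  set D := S ⧸ LinearMap.range (Algebra.linearMap R S)
  let π : S →ₗ[R] D := Submodule.mkQ _
  have hex : Function.Exact (Algebra.linearMap R S) π := LinearMap.exact_map_mkQ_range _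
  have hπ : Function.Surjective π := Submodule.mkQ_surjective _
  rw [injective_iff_map_eq_zero]
  intro z hz
  obtain ⟨w, rfl⟩ := LinearMap.rTensor_surjective N hπ z
  have h1 : LinearMap.rTensor N' π (LinearMap.lTensor S f w) = 0 := by
    rw [← hz, ← LinearMap.comp_apply, ← LinearMap.comp_apply, LinearMap.rTensor_comp_lTensor,
      LinearMap.lTensor_comp_rTensor]
  obtain ⟨y, hy⟩ := (rTensor_exact N' hex hπ _).1 h1
  obtain ⟨n, rfl⟩ : ∃ n : N', y = (1 : R) ⊗ₜ[R] n := ⟨TensorProduct.lid R N' y, by
    rw [← TensorProduct.lid_symm_apply, LinearEquiv.symm_apply_apply]⟩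
  rw [LinearMap.rTensor_tmul, Algebra.linearMap_apply, map_one] at hy
  -- `n` comes from `N`
  have h2 : (1 : S) ⊗ₜ[R] (LinearMap.range f).mkQ n = 0 := by
    have h3 : LinearMap.lTensor S (LinearMap.range f).mkQ (LinearMap.lTensor S f w) = 0 := by
      rw [← LinearMap.comp_apply, ← LinearMap.lTensor_comp]
      have : (LinearMap.range f).mkQ ∘ₗ f = 0 := by
        ext a
        simp
      rw [this, LinearMap.lTensor_zero, LinearMap.zero_apply]
    rw [← hy, LinearMap.lTensor_tmul] at h3
    exact h3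
  have h4 : (LinearMap.range f).mkQ n = 0 := by
    apply Module.FaithfullyFlat.tensorProduct_mk_injective (A := R) (B := S)
    simpa using h2
  rw [Submodule.mkQ_apply, Submodule.Quotient.mk_eq_zero] at h4
  obtain ⟨n0, rfl⟩ := h4
  have h5 : w = (1 : S) ⊗ₜ[R] n0 := by
    apply Module.Flat.lTensor_preserves_injective_linearMap (M := S) f hf
    rw [LinearMap.lTensor_tmul]
    exact hy.symm
  rw [h5, LinearMap.rTensor_tmul]
  have : π 1 = 0 := by
    have := hex.apply_apply_eq_zero 1
    simpa using this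
  rw [this, TensorProduct.zero_tmul]

/-- The condition `S = R + 𝔞 S`. -/
def SurjMod (R : Type u) (S : Type v) [CommRing R] [CommRing S] [Algebra R S] (𝔞 : Ideal R) : Prop :=
  ∀ s : S, ∃ r : R, s - algebraMap R S r ∈ 𝔞.map (algebraMap R S)

section

variable {R : Type u} {S : Type v} [CommRing R] [CommRing S] [Algebra R S]

theorem coker_smul_top (𝔞 : Ideal R) (h : SurjMod R S 𝔞) :
    𝔞 • (⊤ : Submodule R (S ⧸ LinearMap.range (Algebra.linearMap R S))) = ⊤ := by
  rw [eq_top_iff]
  rintro x -
  obtain ⟨s, rfl⟩ := Submodule.mkQ_surjective _ x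
  obtain ⟨r, hr⟩ := h s
  have h1 : (LinearMap.range (Algebra.linearMap R S)).mkQ s =
      (LinearMap.range (Algebra.linearMap R S)).mkQ (s - algebraMap R S r) := by
    rw [map_sub, eq_comm, sub_eq_self, Submodule.mkQ_apply, Submodule.Quotient.mk_eq_zero]
    exact ⟨r, rfl⟩
  rw [h1]
  have h2 : s - algebraMap R S r ∈ 𝔞 • (⊤ : Submodule R S) := by
    rw [Ideal.smul_top_eq_map]
    exact hr
  have h3 := Submodule.mem_map_of_mem (f := (LinearMap.range (Algebra.linearMap R S)).mkQ) h2
  rw [Submodule.map_smul''] at h3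
  exact Submodule.smul_mono le_rfl le_top h3

theorem coker_pow_smul_top (𝔞 : Ideal R) (h : SurjMod R S 𝔞) (n : ℕ) :
    𝔞 ^ n • (⊤ : Submodule R (S ⧸ LinearMap.range (Algebra.linearMap R S))) = ⊤ := by
  induction n with
  | zero => simp
  | succ n ih => rw [pow_succ, Submodule.mul_smul, coker_smul_top 𝔞 h, ih]

/-- `D ⊗ M` where `D` is the cokernel of `R → S`: an element of `S ⊗ M` which dies in it comes
from `M`. -/
theorem eq_of_rTensor_mkQ_eq_zero {M : Type w} [AddCommGroup M] [Module R M] (x : S ⊗[R] M)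
    (hx : LinearMap.rTensor M (LinearMap.range (Algebra.linearMap R S)).mkQ x = 0) :
    ∃ m : M, x = (1 : S) ⊗ₜ[R] m := by
  obtain ⟨y, hy⟩ := (rTensor_exact M (LinearMap.exact_map_mkQ_range (Algebra.linearMap R S))
    (Submodule.mkQ_surjective _) _).1 hx
  refine ⟨TensorProduct.lid R M y, ?_⟩
  rw [← hy]
  have : y = (1 : R) ⊗ₜ[R] (TensorProduct.lid R M y) := by
    rw [← TensorProduct.lid_symm_apply, LinearEquiv.symm_apply_apply]
  conv_lhs => rw [this]
  rw [LinearMap.rTensor_tmul, Algebra.linearMap_apply, map_one]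

theorem rTensor_mkQ_one_tmul {M : Type w} [AddCommGroup M] [Module R M] (m : M) :
    LinearMap.rTensor M (LinearMap.range (Algebra.linearMap R S)).mkQ ((1 : S) ⊗ₜ[R] m) = 0 := by
  rw [LinearMap.rTensor_tmul]
  have : (LinearMap.range (Algebra.linearMap R S)).mkQ (1 : S) = 0 := by
    rw [Submodule.mkQ_apply, Submodule.Quotient.mk_eq_zero]
    exact ⟨1, by simp⟩
  rw [this, TensorProduct.zero_tmul]

variable {ι : Type x} [Finite ι] (a : ι → R)

/-- A power of `(a i)` is contained in `(a i ^ N)`. -/
theorem exists_span_pow_le (N : ℕ) :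
    ∃ n : ℕ, Ideal.span (Set.range a) ^ n ≤ Ideal.span (Set.range fun i => a i ^ N) := by
  have hfg : (Ideal.span (Set.range a)).FG := Submodule.fg_span (Set.finite_range a)
  refine Ideal.exists_pow_le_of_le_radical_of_fg ?_ hfg
  rw [Ideal.span_le]
  rintro _ ⟨i, rfl⟩
  exact ⟨N, Ideal.subset_span ⟨i, rfl⟩⟩

theorem coker_span_pow_smul_top (h : SurjMod R S (Ideal.span (Set.range a))) (N : ℕ) :
    Ideal.span (Set.range fun i => a i ^ N) •
      (⊤ : Submodule R (S ⧸ LinearMap.range (Algebra.linearMap R S))) = ⊤ := by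
  obtain ⟨n, hn⟩ := exists_span_pow_le a N
  exact eq_top_iff.2 ((coker_pow_smul_top _ h n).ge.trans (Submodule.smul_mono hn le_rfl))

/-- Elements of `S ⊗ M` lying in `M` locally on the `D(a i)` lie in `M`. -/
theorem exists_eq_of_pow [Module.FaithfullyFlat R S] (h : SurjMod R S (Ideal.span (Set.range a)))
    {M : Type w} [AddCommGroup M] [Module R M] (x : S ⊗[R] M)
    (hx : ∀ i, ∃ (k : ℕ) (m : M), a i ^ k • x = (1 : S) ⊗ₜ[R] m) :
    ∃ m : M, x = (1 : S) ⊗ₜ[R] m := by
  classical
  have := Fintype.ofFinite ι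
  set D := S ⧸ LinearMap.range (Algebra.linearMap R S)
  have hD : Module.Flat R D := flat_coker R S
  apply eq_of_rTensor_mkQ_eq_zero
  set y := LinearMap.rTensor M (LinearMap.range (Algebra.linearMap R S)).mkQ x with hy
  choose k m hm using hx
  set N := Finset.univ.sup k with hN
  have hkN : ∀ i, k i ≤ N := fun i => Finset.le_sup (Finset.mem_univ i)
  have hyN : ∀ i, a i ^ N • y = 0 := by
    intro i
    have h1 : a i ^ k i • y = 0 := by
      rw [hy, ← map_smul, hm i, rTensor_mkQ_one_tmul]
    rw [← Nat.sub_add_cancel (hkN i), pow_add, mul_smul, h1, smul_zero]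
  -- the linear map `m ↦ (a i ^ N m)`
  let φ : M →ₗ[R] (ι → M) := LinearMap.pi fun i => (a i ^ N) • LinearMap.id
  have h2 : LinearMap.lTensor D φ y = 0 := by
    apply (TensorProduct.piRight R R D (fun _ : ι => M)).injective
    rw [map_zero]
    ext i
    have h3 : ∀ z : D ⊗[R] M, TensorProduct.piRight R R D (fun _ : ι => M) (LinearMap.lTensor D φ z) i
        = a i ^ N • z := by
      intro z
      induction z with
      | zero => simp
      | add z z' hz hz' => simp only [map_add, Pi.add_apply, hz, hz', smul_add]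
      | tmul d m => simp [φ, TensorProduct.tmul_smul]
    rw [h3, hyN i]
    rfl
  obtain ⟨z, hz⟩ := (Module.Flat.lTensor_exact D (LinearMap.exact_subtype_ker_map φ) y).1 h2
  have h5 : ∀ (d : D) (u : LinearMap.ker φ), d ⊗ₜ[R] u = 0 := by
    intro d u
    have hd : d ∈ Ideal.span (Set.range fun i => a i ^ N) • (⊤ : Submodule R D) := by
      rw [coker_span_pow_smul_top a h N]; trivial
    refine Submodule.smul_induction_on hd ?_ ?_
    · intro b hb d' _
      rw [TensorProduct.smul_tmul]
      have : b • u = 0 := by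
        refine Submodule.span_induction (p := fun b _ => b • u = 0) ?_ ?_ ?_ ?_ hb
        · rintro _ ⟨i, rfl⟩
          ext
          exact congrFun (LinearMap.mem_ker.1 u.2) i
        · rw [zero_smul]
        · intro b c _ _ hb hc
          rw [add_smul, hb, hc, add_zero]
        · intro c b _ hb
          rw [smul_assoc, hb, smul_zero]
      rw [this, TensorProduct.tmul_zero]
    · intro d d' hd hd'
      rw [TensorProduct.add_tmul, hd, hd', add_zero]
  have h4 : ∀ z : D ⊗[R] LinearMap.ker φ, z = 0 := by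
    intro z
    induction z with
    | zero => rfl
    | add z z' hz hz' => rw [hz, hz', add_zero]
    | tmul d u => exact h5 d u
  rw [← hz, h4 z, map_zero]

/-- Compatible elements of `(S ⊗ M)/M` on the `D(a i)` glue. -/
theorem exists_glue [Module.FaithfullyFlat R S] (h : SurjMod R S (Ideal.span (Set.range a)))
    {M : Type w} [AddCommGroup M] [Module R M] (k : ℕ) (x : ι → S ⊗[R] M)
    (hx : ∀ i j, ∃ m : M, a j ^ k • x i - a i ^ k • x j = (1 : S) ⊗ₜ[R] m) :
    ∃ x' : S ⊗[R] M, ∀ i, ∃ m : M, x i - a i ^ k • x' = (1 : S) ⊗ₜ[R] m := by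
  classical
  have := Fintype.ofFinite ι
  set D := S ⧸ LinearMap.range (Algebra.linearMap R S)
  have hD : Module.Flat R D := flat_coker R S
  set p : S ⊗[R] M →ₗ[R] D ⊗[R] M :=
    LinearMap.rTensor M (LinearMap.range (Algebra.linearMap R S)).mkQ with hp
  have hpsurj : Function.Surjective p := LinearMap.rTensor_surjective _ (Submodule.mkQ_surjective _)
  let ψ : (ι → M) →ₗ[R] (ι × ι → M) := LinearMap.pi fun ij =>
    (a ij.2 ^ k) • LinearMap.proj ij.1 - (a ij.1 ^ k) • LinearMap.proj ij.2
  have hψ : ∀ (u : ι → M) (ij : ι × ι), ψ u ij = a ij.2 ^ k • u ij.1 - a ij.1 ^ k • u ij.2 :=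
    fun u ij => rfl
  set y : D ⊗[R] (ι → M) := (TensorProduct.piRight R R D (fun _ : ι => M)).symm (fun i => p (x i))
    with hy
  have hy' : ∀ i, TensorProduct.piRight R R D (fun _ : ι => M) y i = p (x i) := by
    intro i
    rw [hy, LinearEquiv.apply_symm_apply]
  have h2 : LinearMap.lTensor D ψ y = 0 := by
    apply (TensorProduct.piRight R R D (fun _ : ι × ι => M)).injective
    rw [map_zero]
    ext ij
    have h3 : ∀ z : D ⊗[R] (ι → M),
        TensorProduct.piRight R R D (fun _ : ι × ι => M) (LinearMap.lTensor D ψ z) ij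
        = a ij.2 ^ k • TensorProduct.piRight R R D (fun _ : ι => M) z ij.1 -
          a ij.1 ^ k • TensorProduct.piRight R R D (fun _ : ι => M) z ij.2 := by
      intro z
      induction z with
      | zero => simp
      | add z z' hz hz' =>
        simp only [map_add, Pi.add_apply, hz, hz', smul_add]
        abel
      | tmul d m => simp [hψ, TensorProduct.tmul_smul, TensorProduct.tmul_sub]
    rw [h3, hy', hy', ← map_smul, ← map_smul, ← map_sub]
    obtain ⟨m, hm⟩ := hx ij.1 ij.2
    rw [hm]
    exact rTensor_mkQ_one_tmul m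
  obtain ⟨z, hz⟩ := (Module.Flat.lTensor_exact D (LinearMap.exact_subtype_ker_map ψ) y).1 h2
  have key : ∀ z : D ⊗[R] LinearMap.ker ψ, ∃ q : D ⊗[R] M, ∀ i, a i ^ k • q =
      TensorProduct.piRight R R D (fun _ : ι => M) (LinearMap.lTensor D (LinearMap.ker ψ).subtype z) i := by
    intro z
    induction z with
    | zero => exact ⟨0, fun i => by simp⟩
    | add z z' hz hz' =>
      obtain ⟨q, hq⟩ := hz
      obtain ⟨q', hq'⟩ := hz'
      exact ⟨q + q', fun i => by rw [smul_add, hq, hq', map_add, map_add, Pi.add_apply]⟩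
    | tmul d u =>
      have hd : d ∈ Ideal.span (Set.range fun i => a i ^ k) • (⊤ : Submodule R D) := by
        rw [coker_span_pow_smul_top a h k]; trivial
      refine Submodule.smul_induction_on (p := fun d => ∃ q : D ⊗[R] M, ∀ i, a i ^ k • q =
        TensorProduct.piRight R R D (fun _ : ι => M)
          (LinearMap.lTensor D (LinearMap.ker ψ).subtype (d ⊗ₜ[R] u)) i) hd ?_ ?_
      · intro b hb d' _
        have hg : ∃ m : M, ∀ i, a i ^ k • m = b • u.1 i := by
          refine Submodule.span_induction (p := fun b _ => ∃ m : M, ∀ i, a i ^ k • m = b • u.1 i)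
            ?_ ?_ ?_ ?_ hb
          · rintro _ ⟨j, rfl⟩
            refine ⟨u.1 j, fun i => ?_⟩
            have h4 := congrFun (LinearMap.mem_ker.1 u.2) (i, j)
            rw [hψ] at h4
            exact (sub_eq_zero.1 h4).symm
          · exact ⟨0, fun i => by rw [smul_zero, zero_smul]⟩
          · rintro b c _ _ ⟨m, hm⟩ ⟨m', hm'⟩
            exact ⟨m + m', fun i => by rw [smul_add, hm, hm', add_smul]⟩
          · rintro c b _ ⟨m, hm⟩
            exact ⟨c • m, fun i => by rw [smul_comm, hm, smul_assoc]⟩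
        obtain ⟨m, hm⟩ := hg
        refine ⟨d' ⊗ₜ[R] m, fun i => ?_⟩
        rw [← TensorProduct.tmul_smul, hm, LinearMap.lTensor_tmul, TensorProduct.piRight_apply,
          TensorProduct.piRightHom_tmul, TensorProduct.tmul_smul, TensorProduct.smul_tmul']
        rfl
      · rintro d d' ⟨q, hq⟩ ⟨q', hq'⟩
        exact ⟨q + q', fun i => by rw [smul_add, hq, hq', TensorProduct.add_tmul, map_add, map_add,
          Pi.add_apply]⟩
  obtain ⟨q, hq⟩ := key z
  obtain ⟨x', rfl⟩ := hpsurj q
  refine ⟨x', fun i => eq_of_rTensor_mkQ_eq_zero _ ?_⟩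
  change p (x i - a i ^ k • x') = 0
  rw [map_sub, map_smul, hq, hz, hy', sub_self]

end

end K73.Excis
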