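import Mathlib.RingTheory.Etale.Kaehler
import Mathlib.RingTheory.Unramified.Basic
import Mathlib.RingTheory.Filtration
import Mathlib.RingTheory.Kaehler.Basic
import Mathlib.RingTheory.Nakayama
/-!
# Rigidity of maps from algebras unramified off `V(I)`

`A → B` of finite type with `B_a` unramified over `A` for all `a ∈ I`.  A power of `I` kills the
differentials, and two `A`-algebra maps from `B` to a Noetherian `A`-algebra `R` with
`I R ⊆ Jac(R)` are equal as soon as they agree modulo `I ^ N`, `N` depending only on `R`.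
-/

set_option autoImplicit false
universe u v w
open TensorProduct

namespace K73.Rigid

/-- If `B_a` is unramified over `A` for all `a ∈ I` then a power of `I` kills the differentials. -/
theorem exists_pow_smul_eq_zero (A : Type u) [CommRing A] (I : Ideal A) (hI : I.FG) (B : Type v)
    [CommRing B] [Algebra A B] [Algebra.FiniteType A B]
    (hB : ∀ a ∈ I, Algebra.FormallyUnramified A (Localization.Away (algebraMap A B a))) :
    ∃ c : ℕ, ∀ r ∈ I ^ c, ∀ ω : Ω[B⁄A], algebraMap A B r • ω = 0 := by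
  set Q : Ideal A := (Module.annihilator B (Ω[B⁄A])).comap (algebraMap A B) with hQ
  have hle : I ≤ Q.radical := by
    intro a ha
    have h1 := hB a ha
    set Ba := Localization.Away (algebraMap A B a)
    have h2 : Subsingleton (Ω[Ba⁄A]) := h1.subsingleton_kaehlerDifferential
    have h3 : ∀ ω : Ω[B⁄A], ∃ n : ℕ, (algebraMap A B a) ^ n • ω = 0 := by
      intro ω
      have h4 := IsLocalizedModule.eq_zero_iff (Submonoid.powers (algebraMap A B a))
        (f := KaehlerDifferential.map A A B Ba) (m := ω)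
      obtain ⟨⟨_, n, rfl⟩, hn⟩ := h4.1 (Subsingleton.elim _ _)
      exact ⟨n, hn⟩
    obtain ⟨s, hs⟩ := (Module.Finite.fg_top : (⊤ : Submodule B (Ω[B⁄A])).FG)
    choose N hN using h3
    refine ⟨s.sup N, ?_⟩
    rw [hQ, Ideal.mem_comap, Module.mem_annihilator]
    intro ω
    have hω : ω ∈ Submodule.span B (s : Set (Ω[B⁄A])) := by rw [hs]; trivial
    refine Submodule.span_induction ?_ ?_ ?_ ?_ hω
    · intro x hx
      have hle := Finset.le_sup (f := N) (Finset.mem_coe.1 hx)
      rw [map_pow, ← Nat.sub_add_cancel hle, pow_add, mul_smul, hN x, smul_zero]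
    · rw [smul_zero]
    · intro x y _ _ hx hy
      rw [smul_add, hx, hy, add_zero]
    · intro b x _ hx
      rw [smul_comm, hx, smul_zero]
  obtain ⟨c, hc⟩ := Ideal.exists_pow_le_of_le_radical_of_fg hle hI
  refine ⟨c, fun r hr ω => ?_⟩
  exact Module.mem_annihilator.1 (hc hr) ω

/-- Two maps from `B`, and `J` an ideal containing all differences: a power of `I` times the
differences lies in `J ^ 2`. -/
theorem exists_mul_sub_mem (A : Type u) [CommRing A] (I : Ideal A) (hI : I.FG) (B : Type v)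
    [CommRing B] [Algebra A B] [Algebra.FiniteType A B]
    (hB : ∀ a ∈ I, Algebra.FormallyUnramified A (Localization.Away (algebraMap A B a))) :
    ∃ c : ℕ, ∀ (R : Type w) [CommRing R] [Algebra A R] (f g : B →ₐ[A] R) (J : Ideal R),
      (∀ b, f b - g b ∈ J) → ∀ r ∈ I ^ c, ∀ b, algebraMap A R r * (f b - g b) ∈ J ^ 2 := by
  obtain ⟨c, hc⟩ := exists_pow_smul_eq_zero A I hI B hB
  refine ⟨c, fun R _ _ f g J hJ r hr b => ?_⟩
  set h : B ⊗[A] B →ₐ[A] R := Algebra.TensorProduct.lift g f (fun _ _ => Commute.all _ _) with hh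
  have h1 : (KaehlerDifferential.ideal A B) ≤ J.comap h.toRingHom := by
    rw [← KaehlerDifferential.span_range_eq_ideal, Ideal.span_le]
    rintro _ ⟨s, rfl⟩
    change h ((1 : B) ⊗ₜ[A] s - s ⊗ₜ[A] (1 : B)) ∈ J
    rw [map_sub, hh, Algebra.TensorProduct.lift_tmul, Algebra.TensorProduct.lift_tmul, map_one,
      map_one, one_mul, mul_one]
    exact hJ s
  have h2 := hc r hr (KaehlerDifferential.D A B b)
  have h3 : (algebraMap A B r) • ((KaehlerDifferential.ideal A B).toCotangent
      ⟨(1 : B) ⊗ₜ[A] b - b ⊗ₜ[A] (1 : B), KaehlerDifferential.one_smul_sub_smul_one_mem_ideal A b⟩)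
        = 0 := h2
  have h4 : (algebraMap A B r) ⊗ₜ[A] (1 : B) * ((1 : B) ⊗ₜ[A] b - b ⊗ₜ[A] (1 : B)) ∈
      KaehlerDifferential.ideal A B ^ 2 := by
    have h5 : (KaehlerDifferential.ideal A B).toCotangent (((algebraMap A B r) ⊗ₜ[A] (1 : B)) •
        (⟨(1 : B) ⊗ₜ[A] b - b ⊗ₜ[A] (1 : B),
          KaehlerDifferential.one_smul_sub_smul_one_mem_ideal A b⟩ : KaehlerDifferential.ideal A B))
        = 0 := by
      rw [map_smul, show (algebraMap A B r) ⊗ₜ[A] (1 : B) = algebraMap B (B ⊗[A] B) (algebraMap A B r)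
        from rfl, algebraMap_smul]
      exact h3
    rw [Ideal.toCotangent_eq_zero] at h5
    exact h5
  have h6 : KaehlerDifferential.ideal A B ^ 2 ≤ (J ^ 2).comap h.toRingHom :=
    (Ideal.pow_right_mono h1 2).trans (Ideal.le_comap_pow _ 2)
  have h7 : h ((algebraMap A B r) ⊗ₜ[A] (1 : B) * ((1 : B) ⊗ₜ[A] b - b ⊗ₜ[A] (1 : B))) ∈ J ^ 2 :=
    Ideal.mem_comap.1 (h6 h4)
  rw [map_mul, map_sub, hh, Algebra.TensorProduct.lift_tmul, Algebra.TensorProduct.lift_tmul,
    Algebra.TensorProduct.lift_tmul, map_one, map_one, one_mul, mul_one, mul_one,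
    AlgHom.commutes] at h7
  exact h7

/-- **Rigidity**: two `A`-algebra maps `B → R` which agree modulo `I ^ N` are equal. -/
theorem exists_eq_of_sub_mem (A : Type u) [CommRing A] (I : Ideal A) (hI : I.FG) (B : Type v)
    [CommRing B] [Algebra A B] [Algebra.FiniteType A B]
    (hB : ∀ a ∈ I, Algebra.FormallyUnramified A (Localization.Away (algebraMap A B a)))
    (R : Type w) [CommRing R] [IsNoetherianRing R] [Algebra A R]
    (hR : I.map (algebraMap A R) ≤ Ideal.jacobson ⊥) :
    ∃ N : ℕ, ∀ f g : B →ₐ[A] R, (∀ b, f b - g b ∈ (I.map (algebraMap A R)) ^ N) → f = g := by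
  obtain ⟨c, hc⟩ := exists_mul_sub_mem A I hI B hB
  set IR := I.map (algebraMap A R) with hIR
  -- the submodule of elements killed by `I ^ c`
  let K : Submodule R R := Submodule.torsionBySet R R (IR ^ c : Ideal R)
  obtain ⟨k, hk⟩ := IR.exists_pow_inf_eq_pow_smul K
  refine ⟨max (c + 1) (k + c), fun f g hfg => ?_⟩
  set J : Ideal R := Ideal.span (Set.range fun b => f b - g b) with hJ
  have hJm : ∀ b, f b - g b ∈ J := fun b => Ideal.subset_span ⟨b, rfl⟩
  have hJI : J ≤ IR ^ (max (c + 1) (k + c)) := by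
    rw [hJ, Ideal.span_le]
    rintro _ ⟨b, rfl⟩
    exact hfg b
  have h1 : IR ^ c * J ≤ J ^ 2 := by
    rw [hIR, ← Ideal.map_pow, Ideal.map, hJ, Ideal.span_mul_span', Ideal.span_le]
    rintro _ ⟨_, ⟨r, hr, rfl⟩, _, ⟨b, rfl⟩, rfl⟩
    exact hc R f g J hJm r hr b
  have h2 : IR ^ c * J = ⊥ := by
    have h3 : IR ^ c * J ≤ IR • (IR ^ c * J) := by
      refine h1.trans ?_
      rw [sq]
      refine (Ideal.mul_mono_left hJI).trans ?_
      refine (Ideal.mul_mono_left (Ideal.pow_le_pow_right (le_max_left _ _))).trans ?_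
      rw [pow_succ', smul_eq_mul, mul_assoc]
    exact Submodule.eq_bot_of_le_smul_of_le_jacobson_bot IR (IR ^ c * J) (IsNoetherian.noetherian _)
      h3 hR
  have h4 : J ≤ K := by
    intro x hx
    rw [Submodule.mem_torsionBySet_iff]
    rintro ⟨a, ha⟩
    have : a * x ∈ IR ^ c * J := Ideal.mul_mem_mul ha hx
    rw [h2] at this
    simpa using this
  have h5 : J ≤ ⊥ := by
    have h6 := hk (k + c) (Nat.le_add_right _ _)
    have h7 : J ≤ (IR ^ (k + c) • ⊤ ⊓ K : Submodule R R) := by
      refine le_inf ?_ h4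
      rw [smul_eq_mul, Ideal.mul_top]
      exact hJI.trans (Ideal.pow_le_pow_right (le_max_right _ _))
    rw [h6, Nat.add_sub_cancel_left] at h7
    refine h7.trans (Submodule.smul_le.2 fun r hr x hx => ?_)
    have hx' : x ∈ K := hx.2
    have := (Submodule.mem_torsionBySet_iff _ _).1 hx' ⟨r, hr⟩
    simpa using this
  refine AlgHom.ext fun b => ?_
  have := h5 (hJm b)
  rwa [Ideal.mem_bot, sub_eq_zero] at this

end K73.Rigid
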