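import Groth.Agent.AdicRing.K73.SqTors
/-!
# The glued algebra
-/

set_option autoImplicit false
universe u v w
open TensorProduct K73.SqLoc K73.Excis K73.SqCore K73.SqTors

namespace K73.SqRa

variable {A : Type u} [CommRing A] {I J : Ideal A}
  {C C₀ : Type u} [CommRing C] [CommRing C₀] [Algebra A C] [Algebra A C₀]
  {B₀ : Type u} [CommRing B₀] [Algebra A B₀] [Algebra B₀ C₀] [IsScalarTower A B₀ C₀]
  [Module.FaithfullyFlat B₀ C₀]
  {p : C →ₐ[A] C₀}

variable (I B₀ p) in
/-- The glued algebra, as a subalgebra of `C`. -/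
noncomputable def Bs : Subalgebra A C :=
  ⨅ (a : A) (_ : a ∈ I), (Ra B₀ p a).comap (lm C a)

omit [Module.FaithfullyFlat B₀ C₀] in
theorem mem_Bs {c : C} : c ∈ Bs I B₀ p ↔ ∀ a ∈ I, algebraMap C (Lo C a) c ∈ Ra B₀ p a := by
  simp only [Bs, Algebra.mem_iInf]
  rfl

variable (hJ : ∀ x ∈ J, ∀ y ∈ J, x * y = 0) (hp : Function.Surjective p)
  (hk : RingHom.ker p = J.map (algebraMap A C))
  (htp : ∀ t : C ⊗[A] J, mu J C t = 0 → ∀ a ∈ I, ∃ k : ℕ, a ^ k • t = 0)
  (hE : ∀ a ∈ I, EtLift J (Lo B₀ a))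
  (hI : I.FG) (hs : SurjMod B₀ C₀ (I.map (algebraMap A B₀)))

include hI in
theorem exists_gens : ∃ (n : ℕ) (a : Fin n → A), (∀ i, a i ∈ I) ∧ Ideal.span (Set.range a) = I := by
  obtain ⟨n, a, ha⟩ := Submodule.fg_iff_exists_fin_generating_family.1 hI
  exact ⟨n, a, fun i => ha ▸ Ideal.subset_span ⟨i, rfl⟩, ha⟩

theorem map_span_range {ι : Type*} (a : ι → A) :
    (Ideal.span (Set.range a)).map (algebraMap A B₀) =
      Ideal.span (Set.range fun i => algebraMap A B₀ (a i)) := by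
  rw [Ideal.map_span, ← Set.range_comp]
  rfl

include hJ hp hk htp hE hI hs in
theorem exists_lift (b₀ : B₀) : ∃ b ∈ Bs I B₀ p, p b = algebraMap B₀ C₀ b₀ := by
  obtain ⟨n, a, ha, hspan⟩ := exists_gens hI
  have hs1 : SurjMod B₀ C₀ (Ideal.span (Set.range fun i => algebraMap A B₀ (a i))) := by
    rw [← map_span_range, hspan]; exact hs
  obtain ⟨e, he⟩ := hp (algebraMap B₀ C₀ b₀)
  obtain ⟨t, ht⟩ := exists_corr hJ hp hk htp hE a ha hs1 he
  refine ⟨e - mu J C t, mem_Bs.2 fun a' ha' => ?_, by rw [map_sub, p_mu hk, sub_zero, he]⟩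
  -- the family enlarged by `a'`
  let a2 : Option (Fin n) → A := fun o => o.elim a' a
  have ha2 : ∀ o, a2 o ∈ I := fun o => by
    cases o with
    | none => exact ha'
    | some i => exact ha i
  have hs2 : SurjMod B₀ C₀ (Ideal.span (Set.range fun i => algebraMap A B₀ (a2 i))) := by
    have : Ideal.span (Set.range a2) = I := by
      apply le_antisymm
      · rw [Ideal.span_le]
        rintro _ ⟨o, rfl⟩
        exact ha2 o
      · rw [← hspan, Ideal.span_le]
        rintro _ ⟨i, rfl⟩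
        exact Ideal.subset_span ⟨some i, rfl⟩
    rw [← map_span_range, this]; exact hs
  obtain ⟨t', ht'⟩ := exists_corr hJ hp hk htp hE a2 ha2 hs2 he
  obtain ⟨s, hsN, hs3⟩ := exists_Nn_of_forall hJ hp hk htp hE a ha hs1
    (c := (e - mu J C t') - (e - mu J C t)) (by
      rw [map_sub, map_sub, map_sub, p_mu hk, p_mu hk, sub_self]) (fun i => by
      rw [map_sub]
      exact sub_mem (ht' (some i)) (ht i))
  obtain ⟨E, _, _, ⟨D⟩⟩ := exists_loc J B₀ p hJ hp hk a' (hE a' ha')
  have h4 : e - mu J C t = (e - mu J C t') - mu J C s := by rw [← hs3]; abel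
  rw [h4, map_sub]
  exact sub_mem (ht' none) (D.mu_mem hJ hk hp hsN)

include hJ hp hk hE hI hs in
theorem exists_of_mem {b : C} (hb : b ∈ Bs I B₀ p) : ∃ b₀, p b = algebraMap B₀ C₀ b₀ := by
  obtain ⟨n, a, ha, hspan⟩ := exists_gens hI
  have hs1 : SurjMod B₀ C₀ (Ideal.span (Set.range fun i => algebraMap A B₀ (a i))) := by
    rw [← map_span_range, hspan]; exact hs
  exact exists_range_of_forall hJ hp hk hE a ha hs1 fun i => mem_Bs.1 hb _ (ha i)

include hJ hp hk htp hE hI hs in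
theorem exists_mu {b : Bs I B₀ p} (hb : p b = 0) : ∃ s : Bs I B₀ p ⊗[A] J, mu J _ s = b := by
  obtain ⟨n, a, ha, hspan⟩ := exists_gens hI
  have hs1 : SurjMod B₀ C₀ (Ideal.span (Set.range fun i => algebraMap A B₀ (a i))) := by
    rw [← map_span_range, hspan]; exact hs
  obtain ⟨t, htN, ht⟩ := exists_Nn_of_forall hJ hp hk htp hE a ha hs1 hb
    fun i => mem_Bs.1 b.2 _ (ha i)
  obtain ⟨s, rfl⟩ := exists_of_mem_Nn J B₀ p hJ hp hk (Bs I B₀ p)
    (fun b₀ => exists_lift hJ hp hk htp hE hI hs b₀) htN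
  refine ⟨s, Subtype.ext ?_⟩
  rw [mu_tj] at ht
  exact ht.symm

include hJ hp hk htp hE hI hs in
/-- The étale lift is the localization of the glued algebra. -/
theorem nonempty_equiv {a : A} (ha : a ∈ I) {E : Type u} [CommRing E] [Algebra A E]
    (D : Loc J B₀ p a E) : Nonempty (E ≃ₐ[A] Lo (Bs I B₀ p) a) := by
  have hE1 := D.etale
  have hinj : Function.Injective (gl (ff (C₀ := C₀) B₀) (dvd_refl a)) := gl_injective ff_injective a
  -- `φ` is injective
  have h1 : Function.Injective D.φ := by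
    rw [injective_iff_map_eq_zero]
    intro u hu
    have h2 : D.ρ u = 0 := hinj (by rw [← D.comm, hu, map_zero, map_zero])
    have h3 : u ∈ J.map (algebraMap A E) := by rw [← D.ker]; exact h2
    obtain ⟨w, rfl⟩ := (mem_range_mu J E).2 h3
    have h4 : tj J D.φ w = 0 := by
      apply mu_Lo_injective J a (fun t ht => htp t ht a ha)
      rw [mu_tj, hu, map_zero]
    have h5 : tj J (gl (ff (C₀ := C₀) B₀) (dvd_refl a)) (tj J D.ρ w) = 0 := by
      have h6 : ∀ w : E ⊗[A] J, tj J (gl (ff (C₀ := C₀) B₀) (dvd_refl a)) (tj J D.ρ w) =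
          tj J (gl p (dvd_refl a)) (tj J D.φ w) := by
        intro w
        induction w with
        | zero => simp
        | add x y hx hy => simp only [map_add, hx, hy]
        | tmul x j =>
          simp only [LinearMap.rTensor_tmul, AlgHom.toLinearMap_apply, D.comm]
      rw [h6, h4, map_zero]
    have h7 : tj J D.ρ w = 0 := tj_gl_injective J a (tj_ff_injective J) (by rw [h5, map_zero])
    have h8 : w = 0 := tj_injective J hJ D.surj D.ker (by rw [h7, map_zero])
    rw [h8, map_zero]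
  have h2 : Function.Injective (gl (Bs I B₀ p).val (dvd_refl a)) :=
    gl_injective Subtype.val_injective a
  have h3 : (gl (Bs I B₀ p).val (dvd_refl a)).range = D.φ.range := by
    rw [← D.Ra_eq hJ hk]
    apply le_antisymm
    · rintro _ ⟨x, rfl⟩
      obtain ⟨k, b, hb⟩ := Lo.exists_smul_eq a x
      refine D.mem_of_pow hJ hk k ?_
      change a ^ k • gl (Bs I B₀ p).val (dvd_refl a) x ∈ _
      rw [← map_smul, hb, gl_algebraMap]
      exact mem_Bs.1 b.2 a ha
    · intro z hz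
      have hz' := hz
      rw [D.Ra_eq hJ hk] at hz'
      obtain ⟨u, hu⟩ := hz'
      have hu' : D.φ u = z := hu
      obtain ⟨k, b₀, hb₀⟩ := Lo.exists_smul_eq a (D.ρ u)
      obtain ⟨b, hb, hpb⟩ := exists_lift hJ hp hk htp hE hI hs b₀
      obtain ⟨l, t, htN, ht⟩ := D.exists_Nn hJ hk hp (z := a ^ k • z - algebraMap C _ b)
        (sub_mem (Subalgebra.smul_mem _ hz _) (mem_Bs.1 hb a ha)) (by
          rw [map_sub, map_smul, ← hu', D.comm, ← map_smul, hb₀, gl_algebraMap, gl_algebraMap, hpb,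
            sub_eq_zero]
          rfl)
      obtain ⟨s, rfl⟩ := exists_of_mem_Nn J B₀ p hJ hp hk (Bs I B₀ p)
        (fun b₀ => exists_lift hJ hp hk htp hE hI hs b₀) htN
      rw [mu_tj] at ht
      obtain ⟨c, hc⟩ := ((Lo.isUnit (S := Bs I B₀ p) (dvd_refl a)).pow (l + k)).exists_left_inv
      refine ⟨c * (algebraMap _ _ (mu J _ s + a ^ l • ⟨b, hb⟩)), ?_⟩
      apply Lo.smul_cancel (dvd_refl a) (l + k)
      change a ^ (l + k) • gl (Bs I B₀ p).val (dvd_refl a) _ = _
      rw [← map_smul, Algebra.smul_def, map_pow, ← mul_assoc, mul_comm _ c, hc, one_mul,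
        gl_algebraMap, map_add, map_add, pow_add, mul_smul, ← ht]
      have h5 : algebraMap C (Lo C a) ((Bs I B₀ p).val (a ^ l • ⟨b, hb⟩)) =
          a ^ l • algebraMap C (Lo C a) b := (Lo.algebraMap_smul' a (a ^ l) b).symm
      rw [h5, ← smul_add, sub_add_cancel]
  exact ⟨((AlgEquiv.ofInjective _ h1).trans (Subalgebra.equivOfEq _ _ h3.symm)).trans
    (AlgEquiv.ofInjective _ h2).symm⟩

end K73.SqRa
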