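import Mathlib.RingTheory.Localization.Away.Basic
import Mathlib.RingTheory.Flat.Basic
import Mathlib.LinearAlgebra.TensorProduct.RightExactness
import Mathlib.RingTheory.Ideal.Maps
/-!
# Localizations of an `A`-algebra at elements of `A`, and `S ⊗ J` for a square-zero ideal `J`

`Lo S a` is the localization of the `A`-algebra `S` at the image of `a : A`; `gl g h` is the map
`Lo S a → Lo T a'` induced by `g : S → T` when `a ∣ a'`.  `mu J S : S ⊗ J → S` is the multiplication;
for a surjection `q : E → E₀` with kernel `J E` and `J² = 0`, `E ⊗ J → E₀ ⊗ J` is injective.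
-/

set_option autoImplicit false
universe u v w x
open TensorProduct

namespace K73.SqLoc

variable {A : Type u} [CommRing A]

/-- The localization of an `A`-algebra at an element of `A`. -/
abbrev Lo (S : Type v) [CommRing S] [Algebra A S] (a : A) : Type v :=
  Localization.Away (algebraMap A S a)

section Lo

variable {S : Type v} [CommRing S] [Algebra A S] {T : Type w} [CommRing T] [Algebra A T]

theorem Lo.isUnit {a a' : A} (h : a ∣ a') : IsUnit (algebraMap A (Lo S a') a) := by
  have h1 : IsUnit (algebraMap A (Lo S a') a') := by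
    rw [IsScalarTower.algebraMap_apply A S (Lo S a')]
    exact IsLocalization.Away.algebraMap_isUnit _
  exact isUnit_of_dvd_unit (map_dvd _ h) h1

theorem Lo.exists_smul_eq (a : A) (x : Lo S a) : ∃ (k : ℕ) (s : S), a ^ k • x = algebraMap S _ s := by
  obtain ⟨k, s, hs⟩ := IsLocalization.Away.surj (algebraMap A S a) x
  refine ⟨k, s, ?_⟩
  rw [← hs, Algebra.smul_def, map_pow, IsScalarTower.algebraMap_apply A S (Lo S a), mul_comm]

theorem Lo.exists_of_eq (a : A) {s t : S} (h : algebraMap S (Lo S a) s = algebraMap S (Lo S a) t) :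
    ∃ k : ℕ, a ^ k • s = a ^ k • t := by
  obtain ⟨k, hk⟩ := IsLocalization.Away.exists_of_eq (S := Lo S a) (algebraMap A S a) h
  refine ⟨k, ?_⟩
  rw [Algebra.smul_def, Algebra.smul_def, map_pow]
  exact hk

theorem Lo.smul_cancel {a a' : A} (h : a ∣ a') (k : ℕ) {x y : Lo S a'} (hxy : a ^ k • x = a ^ k • y) :
    x = y := by
  rw [Algebra.smul_def, Algebra.smul_def] at hxy
  have h1 : IsUnit (algebraMap A (Lo S a') (a ^ k)) := by
    rw [map_pow]; exact (Lo.isUnit h).pow k
  exact h1.mul_left_cancel hxy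

/-- The map `Lo S a → Lo T a'` induced by `g : S → T` when `a ∣ a'`. -/
noncomputable def gl (g : S →ₐ[A] T) {a a' : A} (h : a ∣ a') : Lo S a →ₐ[A] Lo T a' :=
  IsLocalization.liftAlgHom (M := Submonoid.powers (algebraMap A S a))
    (f := (IsScalarTower.toAlgHom A T (Lo T a')).comp g) (by
      rintro ⟨_, k, rfl⟩
      have h1 := (Lo.isUnit (S := T) h).pow k
      rw [IsScalarTower.algebraMap_apply A T (Lo T a')] at h1
      simpa using h1)

theorem gl_algebraMap (g : S →ₐ[A] T) {a a' : A} (h : a ∣ a') (s : S) :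
    gl g h (algebraMap S (Lo S a) s) = algebraMap T (Lo T a') (g s) := by
  rw [gl, IsLocalization.liftAlgHom_apply, IsLocalization.lift_eq]
  rfl

theorem hom_ext {a a' : A} (h : a ∣ a') {F G : Lo S a →ₐ[A] Lo T a'}
    (hFG : ∀ s, F (algebraMap S _ s) = G (algebraMap S _ s)) (x : Lo S a) : F x = G x := by
  obtain ⟨k, s, hs⟩ := Lo.exists_smul_eq a x
  apply Lo.smul_cancel h k
  rw [← map_smul, ← map_smul, hs, hFG]

theorem gl_gl {U : Type x} [CommRing U] [Algebra A U] (g : S →ₐ[A] T) (g' : T →ₐ[A] U) {a a' a'' : A}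
    (h : a ∣ a') (h' : a' ∣ a'') (x : Lo S a) :
    gl g' h' (gl g h x) = gl (g'.comp g) (h.trans h') x := by
  refine hom_ext (h.trans h') (F := (gl g' h').comp (gl g h)) (G := gl (g'.comp g) (h.trans h'))
    (fun s => ?_) x
  rw [AlgHom.comp_apply, gl_algebraMap, gl_algebraMap, gl_algebraMap, AlgHom.comp_apply]

theorem gl_injective {g : S →ₐ[A] T} (hg : Function.Injective g) (a : A) :
    Function.Injective (gl g (dvd_refl a)) := by
  rw [injective_iff_map_eq_zero]
  intro x hx
  obtain ⟨k, s, hs⟩ := Lo.exists_smul_eq a x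
  have h1 : algebraMap T (Lo T a) (g s) = algebraMap T (Lo T a) 0 := by
    rw [← gl_algebraMap g (dvd_refl a), ← hs, map_smul, hx, smul_zero, map_zero]
  obtain ⟨l, hl⟩ := Lo.exists_of_eq a h1
  have h2 : a ^ l • s = 0 := hg (by rw [map_smul, hl, smul_zero, map_zero])
  apply Lo.smul_cancel (dvd_refl a) (l + k)
  rw [smul_zero, pow_add, mul_smul, hs, ← algebraMap_smul S (a ^ l) (algebraMap S (Lo S a) s),
    Algebra.smul_def, ← map_mul, ← Algebra.smul_def, h2, map_zero]

theorem gl_surjective {g : S →ₐ[A] T} (hg : Function.Surjective g) (a : A) :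
    Function.Surjective (gl g (dvd_refl a)) := by
  intro y
  obtain ⟨k, t, ht⟩ := Lo.exists_smul_eq a y
  obtain ⟨s, rfl⟩ := hg t
  obtain ⟨c, hc⟩ := ((Lo.isUnit (S := S) (dvd_refl a)).pow k).exists_right_inv
  refine ⟨algebraMap S _ s * c, ?_⟩
  have h1 : a ^ k • gl g (dvd_refl a) (algebraMap S _ s * c) = a ^ k • y := by
    rw [ht, ← map_smul, Algebra.smul_def, map_pow, mul_left_comm, hc, mul_one, gl_algebraMap]
  exact Lo.smul_cancel (dvd_refl a) k h1

theorem Lo.algebraMap_smul' (a r : A) (s : S) :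
    r • algebraMap S (Lo S a) s = algebraMap S (Lo S a) (r • s) := by
  rw [Algebra.smul_def, Algebra.smul_def, map_mul, ← IsScalarTower.algebraMap_apply]

end Lo

section Mu

variable (J : Ideal A) (S : Type v) [CommRing S] [Algebra A S]

/-- The multiplication `S ⊗ J → S`. -/
noncomputable def mu : S ⊗[A] J →ₗ[A] S :=
  (TensorProduct.rid A S).toLinearMap ∘ₗ J.subtype.lTensor S

@[simp]
theorem mu_tmul (s : S) (j : J) : mu J S (s ⊗ₜ[A] j) = (j : A) • s := by
  simp [mu]

theorem range_mu : LinearMap.range (mu J S) = J • (⊤ : Submodule A S) := by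
  apply le_antisymm
  · rintro _ ⟨t, rfl⟩
    induction t with
    | zero => rw [map_zero]; exact zero_mem _
    | add x y hx hy => rw [map_add]; exact add_mem hx hy
    | tmul s j => rw [mu_tmul]; exact Submodule.smul_mem_smul j.2 trivial
  · rw [Submodule.smul_le]
    intro j hj s _
    exact ⟨s ⊗ₜ[A] ⟨j, hj⟩, by rw [mu_tmul]⟩

theorem mem_range_mu {s : S} : s ∈ LinearMap.range (mu J S) ↔ s ∈ J.map (algebraMap A S) := by
  rw [range_mu, Ideal.smul_top_eq_map]
  rfl

variable {S} {T : Type w} [CommRing T] [Algebra A T]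

/-- Functoriality of `S ⊗ J`. -/
noncomputable abbrev tj (g : S →ₐ[A] T) : S ⊗[A] J →ₗ[A] T ⊗[A] J := LinearMap.rTensor J g.toLinearMap

theorem mu_tj (g : S →ₐ[A] T) (t : S ⊗[A] J) : mu J T (tj J g t) = g (mu J S t) := by
  induction t with
  | zero => simp
  | add x y hx hy => rw [map_add, map_add, hx, hy, map_add, map_add]
  | tmul s j => simp

theorem tj_surjective {g : S →ₐ[A] T} (hg : Function.Surjective g) : Function.Surjective (tj J g) :=
  LinearMap.rTensor_surjective _ hg

/-- For `q : E → E₀` surjective with kernel `J E` and `J² = 0`, `E ⊗ J → E₀ ⊗ J` is injective. -/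
theorem tj_injective (hJ : ∀ x ∈ J, ∀ y ∈ J, x * y = 0) {q : S →ₐ[A] T} (hq : Function.Surjective q)
    (hk : RingHom.ker q = J.map (algebraMap A S)) : Function.Injective (tj J q) := by
  rw [injective_iff_map_eq_zero]
  intro t ht
  have hex : Function.Exact (LinearMap.ker q.toLinearMap).subtype q.toLinearMap :=
    LinearMap.exact_subtype_ker_map _
  obtain ⟨w, rfl⟩ := (rTensor_exact J hex hq t).1 ht
  clear ht
  induction w with
  | zero => simp
  | add x y hx hy => rw [map_add, hx, hy, add_zero]
  | tmul s j =>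
    rw [LinearMap.rTensor_tmul, Submodule.subtype_apply]
    have h1 : (s : S) ∈ J • (⊤ : Submodule A S) := by
      rw [Ideal.smul_top_eq_map]
      change (s : S) ∈ J.map (algebraMap A S)
      rw [← hk]
      exact s.2
    refine Submodule.smul_induction_on (p := fun x => x ⊗ₜ[A] j = 0) h1 ?_ ?_
    · intro r hr x _
      rw [TensorProduct.smul_tmul]
      have : r • j = 0 := by
        ext
        exact hJ r hr j j.2
      rw [this, TensorProduct.tmul_zero]
    · intro x y hx hy
      rw [TensorProduct.add_tmul, hx, hy, add_zero]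

theorem mu_injective_of_flat [Module.Flat A S] : Function.Injective (mu J S) :=
  (TensorProduct.rid A S).injective.comp
    (Module.Flat.lTensor_preserves_injective_linearMap _ J.injective_subtype)

theorem mul_mu_eq_zero (hJ : ∀ x ∈ J, ∀ y ∈ J, x * y = 0) {j : A} (hj : j ∈ J) {s : S}
    (hs : s ∈ J.map (algebraMap A S)) : j • s = 0 := by
  have h1 : s ∈ J • (⊤ : Submodule A S) := by
    rw [Ideal.smul_top_eq_map]; exact hs
  refine Submodule.smul_induction_on (p := fun x => j • x = 0) h1 ?_ ?_
  · intro r hr x _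
    rw [smul_smul, hJ j hj r hr, zero_smul]
  · intro x y hx hy
    rw [smul_add, hx, hy, add_zero]

end Mu

end K73.SqLoc
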