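import Groth.Agent.AdicRing.K73.Excis
import Groth.Agent.AdicRing.K73.SqLoc
import Mathlib.RingTheory.Etale.Basic
/-!
# Lifting a faithfully flat étale neighbourhood along a square-zero ideal: the glueing

`J² = 0` in `A`, `p : C → C₀` surjective with kernel `J C`, `f : B₀ → C₀` faithfully flat with
`C₀ = B₀ + I C₀`; over `D(a)`, `a ∈ I`, `B₀` lifts to an étale `A`-algebra.  `Ra p a` is the image of
that étale lift in the localization `Lo C a`, and the wanted lift of `B₀` is the subalgebra of the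
elements of `C` lying in `Ra p a` for all `a ∈ I`.
-/

set_option autoImplicit false
universe u v w
open TensorProduct K73.SqLoc K73.Excis

namespace K73.SqCore

variable {A : Type u} [CommRing A] (J : Ideal A)
  {C C₀ : Type u} [CommRing C] [CommRing C₀] [Algebra A C] [Algebra A C₀]
  (B₀ : Type u) [CommRing B₀] [Algebra A B₀] [Algebra B₀ C₀] [IsScalarTower A B₀ C₀]
  (p : C →ₐ[A] C₀)

/-- `B₀ → C₀` as a map of `A`-algebras. -/
noncomputable abbrev ff : B₀ →ₐ[A] C₀ := IsScalarTower.toAlgHom A B₀ C₀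

/-- The elements of `C ⊗ J = C₀ ⊗ J` coming from `B₀ ⊗ J`. -/
noncomputable def Nn : Submodule A (C ⊗[A] J) :=
  (LinearMap.range (tj J (ff (A := A) (C₀ := C₀) B₀))).comap (tj J p)

theorem mem_Nn {t : C ⊗[A] J} :
    t ∈ Nn J B₀ p ↔ ∃ m : B₀ ⊗[A] J, tj J (ff B₀) m = tj J p t := Iff.rfl

/-- The base change isomorphism `C₀ ⊗_{B₀} (B₀ ⊗ J) = C₀ ⊗ J`. -/
noncomputable abbrev cb : C₀ ⊗[B₀] (B₀ ⊗[A] J) ≃ₗ[C₀] C₀ ⊗[A] J :=
  TensorProduct.AlgebraTensorModule.cancelBaseChange A B₀ C₀ C₀ J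

theorem cb_one_tmul (m : B₀ ⊗[A] J) : cb (C₀ := C₀) J B₀ ((1 : C₀) ⊗ₜ[B₀] m) = tj J (ff B₀) m := by
  induction m with
  | zero => simp
  | add x y hx hy => rw [TensorProduct.tmul_add, map_add, map_add, hx, hy]
  | tmul b j => simp [Algebra.smul_def]

theorem cb_smul (r : A) (x : C₀ ⊗[B₀] (B₀ ⊗[A] J)) :
    cb (C₀ := C₀) J B₀ ((algebraMap A B₀ r) • x) = r • cb J B₀ x := by
  rw [← algebraMap_smul C₀ (algebraMap A B₀ r) x, map_smul, ← IsScalarTower.algebraMap_apply,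
    algebraMap_smul]

variable {ι : Type w} [Finite ι] (a : ι → A)

theorem Nn_of_pow [Module.FaithfullyFlat B₀ C₀]
    (hs : SurjMod B₀ C₀ (Ideal.span (Set.range fun i => algebraMap A B₀ (a i))))
    (t : C ⊗[A] J) (h : ∀ i, ∃ k : ℕ, a i ^ k • t ∈ Nn J B₀ p) : t ∈ Nn J B₀ p := by
  obtain ⟨m, hm⟩ := exists_eq_of_pow (fun i => algebraMap A B₀ (a i)) hs
    ((cb J B₀).symm (tj J p t)) (fun i => by
      obtain ⟨k, hk⟩ := h i
      obtain ⟨m, hm⟩ := (mem_Nn J B₀ p).1 hk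
      refine ⟨k, m, (cb (C₀ := C₀) J B₀).injective ?_⟩
      rw [cb_one_tmul, hm, ← map_pow, cb_smul, LinearEquiv.apply_symm_apply, map_smul])
  refine (mem_Nn J B₀ p).2 ⟨m, ?_⟩
  rw [← cb_one_tmul, ← hm, LinearEquiv.apply_symm_apply]

theorem Nn_glue [Module.FaithfullyFlat B₀ C₀] (hp : Function.Surjective p)
    (hs : SurjMod B₀ C₀ (Ideal.span (Set.range fun i => algebraMap A B₀ (a i)))) (k : ℕ)
    (t : ι → C ⊗[A] J) (h : ∀ i j, a j ^ k • t i - a i ^ k • t j ∈ Nn J B₀ p) :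
    ∃ t', ∀ i, t i - a i ^ k • t' ∈ Nn J B₀ p := by
  obtain ⟨x, hx⟩ := exists_glue (fun i => algebraMap A B₀ (a i)) hs k
    (fun i => (cb J B₀).symm (tj J p (t i))) (fun i j => by
      obtain ⟨m, hm⟩ := (mem_Nn J B₀ p).1 (h i j)
      refine ⟨m, (cb (C₀ := C₀) J B₀).injective ?_⟩
      rw [cb_one_tmul, hm, ← map_pow, ← map_pow, map_sub, cb_smul, cb_smul,
        LinearEquiv.apply_symm_apply, LinearEquiv.apply_symm_apply, map_sub, map_smul, map_smul])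
  obtain ⟨t', ht'⟩ := tj_surjective J hp (cb J B₀ x)
  refine ⟨t', fun i => ?_⟩
  obtain ⟨m, hm⟩ := hx i
  refine (mem_Nn J B₀ p).2 ⟨m, ?_⟩
  rw [← cb_one_tmul, ← hm, ← map_pow, map_sub, cb_smul, LinearEquiv.apply_symm_apply, map_sub,
    map_smul, ht']

theorem range_of_pow [Module.FaithfullyFlat B₀ C₀]
    (hs : SurjMod B₀ C₀ (Ideal.span (Set.range fun i => algebraMap A B₀ (a i))))
    (x : C₀) (h : ∀ i, ∃ (k : ℕ) (b : B₀), a i ^ k • x = algebraMap B₀ C₀ b) :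
    ∃ b, x = algebraMap B₀ C₀ b := by
  obtain ⟨m, hm⟩ := exists_eq_of_pow (fun i => algebraMap A B₀ (a i)) hs
    ((TensorProduct.rid B₀ C₀).symm x) (fun i => by
      obtain ⟨k, b, hk⟩ := h i
      refine ⟨k, b, (TensorProduct.rid B₀ C₀).injective ?_⟩
      rw [map_smul, LinearEquiv.apply_symm_apply, TensorProduct.rid_tmul, ← map_pow,
        algebraMap_smul, hk, Algebra.algebraMap_eq_smul_one])
  refine ⟨m, ?_⟩
  have := congrArg (TensorProduct.rid B₀ C₀) hm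
  rw [LinearEquiv.apply_symm_apply, TensorProduct.rid_tmul] at this
  rw [this, Algebra.algebraMap_eq_smul_one]

/-- If `B` is a subalgebra of `C` whose image in `C₀` contains `B₀`, elements of `Nn` come from
`B ⊗ J`. -/
theorem exists_of_mem_Nn (hJ : ∀ x ∈ J, ∀ y ∈ J, x * y = 0) (hp : Function.Surjective p)
    (hk : RingHom.ker p = J.map (algebraMap A C)) (B : Subalgebra A C)
    (hB : ∀ b₀ : B₀, ∃ b ∈ B, p b = algebraMap B₀ C₀ b₀) {t : C ⊗[A] J} (ht : t ∈ Nn J B₀ p) :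
    ∃ s : B ⊗[A] J, tj J B.val s = t := by
  obtain ⟨m, hm⟩ := (mem_Nn J B₀ p).1 ht
  have key : ∀ m : B₀ ⊗[A] J, ∃ s : B ⊗[A] J, tj J p (tj J B.val s) = tj J (ff B₀) m := by
    intro m
    induction m with
    | zero => exact ⟨0, by simp⟩
    | add x y hx hy =>
      obtain ⟨s, hs⟩ := hx
      obtain ⟨s', hs'⟩ := hy
      exact ⟨s + s', by rw [map_add, map_add, map_add, hs, hs']⟩
    | tmul b j =>
      obtain ⟨c, hc, hcb⟩ := hB b
      refine ⟨⟨c, hc⟩ ⊗ₜ[A] j, ?_⟩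
      simp [hcb]
  obtain ⟨s, hs⟩ := key m
  exact ⟨s, tj_injective J hJ hp hk (hs.trans hm)⟩

theorem mem_Nn_of_eq {e : C} {b : B₀} (h : p e = algebraMap B₀ C₀ b) (j : J) :
    e ⊗ₜ[A] j ∈ Nn J B₀ p :=
  (mem_Nn J B₀ p).2 ⟨b ⊗ₜ[A] j, by simp [h]⟩

end K73.SqCore
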