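import Groth.Agent.Flat2C.ThickAlg
import Groth.Agent.FlatA.TorVanish
import Groth.Agent.LCI.K310.PushQuot
import Mathlib.RingTheory.Flat.Stability
/-!
# Flat and unramified modulo a nilpotent ideal
-/

set_option autoImplicit false
universe u
open TensorProduct

namespace K73.SqFlat

/-- Flatness modulo a nilpotent ideal, for a surjection `B → B₀` instead of a quotient. -/
theorem flat_of_surj {B B₀ C : Type u} [CommRing B] [CommRing B₀] [CommRing C] [Algebra B B₀]
    [Algebra B C] (hq : Function.Surjective (algebraMap B B₀))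
    (hn : IsNilpotent (RingHom.ker (algebraMap B B₀))) [Module.Flat B₀ (B₀ ⊗[B] C)]
    (hinj : Function.Injective ((RingHom.ker (algebraMap B B₀)).subtype.rTensor C)) :
    Module.Flat B C := by
  set K := RingHom.ker (algebraMap B B₀) with hK
  let e : (B ⧸ K) ≃+* B₀ := RingHom.quotientKerEquivOfSurjective hq
  let i1 : Algebra B₀ (B ⧸ K) := e.symm.toRingHom.toAlgebra
  have i2 : IsScalarTower B B₀ (B ⧸ K) := by
    refine IsScalarTower.of_algebraMap_eq fun b => ?_
    change Ideal.Quotient.mk K b = e.symm (algebraMap B B₀ b)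
    rw [RingEquiv.eq_symm_apply]
    rfl
  have h1 : Module.Flat (B ⧸ K) ((B ⧸ K) ⊗[B₀] (B₀ ⊗[B] C)) := inferInstance
  have h2 : Module.Flat (B ⧸ K) ((B ⧸ K) ⊗[B] C) :=
    Module.Flat.of_linearEquiv
      (TensorProduct.AlgebraTensorModule.cancelBaseChange B B₀ (B ⧸ K) (B ⧸ K) C).symm
  exact Groth.Agent.FlatA.TorVanish.flat_of_isNilpotent hn hinj

/-- Package: `B → C` lifting a flat unramified `B₀ → C₀` is flat and unramified as soon as
`K ⊗ C → C` is injective, `K` the kernel of `B → B₀`. -/
theorem flat_and_formallyUnramified {B B₀ C C₀ : Type u} [CommRing B] [CommRing B₀] [CommRing C]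
    [CommRing C₀] [Algebra B B₀] [Algebra B C] [Algebra B C₀] [Algebra B₀ C₀] [Algebra C C₀]
    [IsScalarTower B B₀ C₀] [IsScalarTower B C C₀] (hq : Function.Surjective (algebraMap B B₀))
    (hp : Function.Surjective (algebraMap C C₀))
    (hker : RingHom.ker (algebraMap C C₀) = (RingHom.ker (algebraMap B B₀)).map (algebraMap B C))
    (hn : IsNilpotent (RingHom.ker (algebraMap B B₀)))
    (hinj : Function.Injective ((RingHom.ker (algebraMap B B₀)).subtype.rTensor C))
    [Module.Flat B₀ C₀] [Algebra.FormallyUnramified B₀ C₀] :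
    Module.Flat B C ∧ Algebra.FormallyUnramified B C := by
  have h1 : Algebra.IsPushout B B₀ C C₀ :=
    K310.PushQuot.isPushout_of_surjective hq hp hker.le
  have h2 : Module.Flat B₀ (B₀ ⊗[B] C) := Module.Flat.of_linearEquiv h1.out.equiv
  have h3 : IsNilpotent (RingHom.ker (algebraMap C C₀)) := by
    obtain ⟨n, hn⟩ := hn
    refine ⟨n, ?_⟩
    rw [hker, ← Ideal.map_pow, hn]
    exact Ideal.map_bot
  exact ⟨flat_of_surj hq hn hinj,
    Groth.Agent.Flat2C.ThickAlg.formallyUnramified_of_isNilpotent (R := B₀) (A := C₀) hp h3⟩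

end K73.SqFlat
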