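import Groth.Agent.AdicRing.K73.SqRa
/-!
# Glueing the étale lifts: surjectivity and kernel
-/

set_option autoImplicit false
universe u v w
open TensorProduct K73.SqLoc K73.Excis K73.SqCore

namespace K73.SqRa

variable {A : Type u} [CommRing A] {I J : Ideal A}
  {C C₀ : Type u} [CommRing C] [CommRing C₀] [Algebra A C] [Algebra A C₀]
  {B₀ : Type u} [CommRing B₀] [Algebra A B₀] [Algebra B₀ C₀] [IsScalarTower A B₀ C₀]
  [Module.FaithfullyFlat B₀ C₀]
  {p : C →ₐ[A] C₀}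
  (hJ : ∀ x ∈ J, ∀ y ∈ J, x * y = 0) (hp : Function.Surjective p)
  (hk : RingHom.ker p = J.map (algebraMap A C))
  (htp : ∀ t : C ⊗[A] J, mu J C t = 0 → ∀ a ∈ I, ∃ k : ℕ, a ^ k • t = 0)
  (hE : ∀ a ∈ I, EtLift J (Lo B₀ a))

include hk in
theorem p_mu (t : C ⊗[A] J) : p (mu J C t) = 0 := by
  have h1 : mu J C t ∈ J.map (algebraMap A C) := (mem_range_mu J C).1 ⟨t, rfl⟩
  rw [← hk] at h1
  exact h1

include hJ hp hk htp hE in
theorem exists_pow_mem_Nn {a : A} (ha : a ∈ I) {t : C ⊗[A] J}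
    (ht : algebraMap C (Lo C a) (mu J C t) ∈ Ra B₀ p a) : ∃ k : ℕ, a ^ k • t ∈ Nn J B₀ p := by
  obtain ⟨E, _, _, ⟨D⟩⟩ := exists_loc J B₀ p hJ hp hk a (hE a ha)
  obtain ⟨k, t', ht', hkt⟩ := D.exists_Nn hJ hk hp ht (by
    rw [gl_algebraMap, p_mu hk, map_zero])
  rw [Lo.algebraMap_smul'] at hkt
  obtain ⟨l, hl⟩ := Lo.exists_of_eq a hkt
  have h1 : mu J C (a ^ l • (a ^ k • t - t')) = 0 := by
    rw [map_smul, map_sub, map_smul, smul_sub, hl, sub_self]
  obtain ⟨m, hm⟩ := htp _ h1 a ha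
  refine ⟨m + l + k, ?_⟩
  rw [smul_smul, ← pow_add, smul_sub, sub_eq_zero] at hm
  rw [pow_add, mul_smul, hm]
  exact Submodule.smul_mem _ _ ht'

variable {ι : Type w} [Finite ι] (a : ι → A) (ha : ∀ i, a i ∈ I)
  (hs : SurjMod B₀ C₀ (Ideal.span (Set.range fun i => algebraMap A B₀ (a i))))

include hJ hp hk htp hE ha hs in
/-- Kernel: elements vanishing modulo `J` and locally in the étale lifts come from `Nn`. -/
theorem exists_Nn_of_forall {c : C} (hc : p c = 0)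
    (h : ∀ i, algebraMap C (Lo C (a i)) c ∈ Ra B₀ p (a i)) : ∃ t ∈ Nn J B₀ p, c = mu J C t := by
  obtain ⟨t, rfl⟩ := (mem_range_mu J C).2 (by rw [← hk]; exact hc : c ∈ J.map (algebraMap A C))
  exact ⟨t, Nn_of_pow J B₀ p a hs t fun i => exists_pow_mem_Nn hJ hp hk htp hE (ha i) (h i), rfl⟩

include hJ hp hk hE ha hs in
theorem exists_range_of_forall {c : C} (h : ∀ i, algebraMap C (Lo C (a i)) c ∈ Ra B₀ p (a i)) :
    ∃ b, p c = algebraMap B₀ C₀ b := by
  refine range_of_pow B₀ a hs (p c) fun i => ?_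
  obtain ⟨E, _, _, ⟨D⟩⟩ := exists_loc J B₀ p hJ hp hk (a i) (hE (a i) (ha i))
  have h1 := h i
  rw [D.Ra_eq hJ hk] at h1
  obtain ⟨u, hu⟩ := h1
  have hu' : D.φ u = algebraMap C _ c := hu
  obtain ⟨k, b, hb⟩ := Lo.exists_smul_eq (a i) (D.ρ u)
  have h2 : algebraMap C₀ (Lo C₀ (a i)) (a i ^ k • p c) = algebraMap C₀ (Lo C₀ (a i)) (algebraMap B₀ C₀ b) := by
    rw [← Lo.algebraMap_smul', ← gl_algebraMap p (dvd_refl (a i)), ← hu', D.comm, ← map_smul, hb,
      gl_algebraMap]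
    rfl
  obtain ⟨l, hl⟩ := Lo.exists_of_eq (a i) h2
  refine ⟨l + k, a i ^ l • b, ?_⟩
  rw [pow_add, mul_smul, hl, Algebra.smul_def, Algebra.smul_def, map_mul,
    ← IsScalarTower.algebraMap_apply]

include hJ hp hk htp hE ha hs in
/-- Surjectivity: every element of `B₀` lifts to an element of `C` lying locally in the lifts. -/
theorem exists_corr {e : C} {b : B₀} (he : p e = algebraMap B₀ C₀ b) :
    ∃ t : C ⊗[A] J, ∀ i, algebraMap C (Lo C (a i)) (e - mu J C t) ∈ Ra B₀ p (a i) := by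
  classical
  have := Fintype.ofFinite ι
  have h1 : ∀ i, ∃ z : Lo C (a i), z ∈ Ra B₀ p (a i) ∧
      gl p (dvd_refl (a i)) (algebraMap C _ e - z) = 0 := by
    intro i
    obtain ⟨E, _, _, ⟨D⟩⟩ := exists_loc J B₀ p hJ hp hk (a i) (hE (a i) (ha i))
    obtain ⟨u, hu⟩ := D.surj (algebraMap B₀ _ b)
    refine ⟨D.φ u, by rw [D.Ra_eq hJ hk]; exact ⟨u, rfl⟩, ?_⟩
    rw [map_sub, D.comm, hu, gl_algebraMap, gl_algebraMap, he, sub_eq_zero]
    rfl
  choose z hz hz0 using h1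
  choose k t ht using fun i => exists_mu_of_gl_eq_zero J p hk (a i) (hz0 i)
  obtain ⟨K, hkK⟩ : ∃ K, ∀ i, k i ≤ K :=
    ⟨Finset.univ.sup k, fun i => Finset.le_sup (Finset.mem_univ i)⟩
  obtain ⟨t1, h2⟩ : ∃ t1 : ι → C ⊗[A] J, ∀ i,
      a i ^ K • (algebraMap C (Lo C (a i)) e - z i) = algebraMap C _ (mu J C (t1 i)) := by
    refine ⟨fun i => a i ^ (K - k i) • t i, fun i => ?_⟩
    dsimp only
    rw [map_smul, ← Lo.algebraMap_smul', ← ht, smul_smul, ← pow_add, Nat.sub_add_cancel (hkK i)]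
  have h3 : ∀ ij : ι × ι, ∃ L : ℕ,
      (a ij.1 * a ij.2) ^ L • (a ij.2 ^ K • t1 ij.1 - a ij.1 ^ K • t1 ij.2) ∈ Nn J B₀ p := by
    rintro ⟨i, j⟩
    dsimp only
    refine exists_pow_mem_Nn hJ hp hk htp hE (I.mul_mem_right _ (ha i)) ?_
    have e1 : algebraMap C (Lo C (a i * a j)) (mu J C (t1 i)) =
        a i ^ K • (algebraMap C _ e - gl (AlgHom.id A C) (Dvd.intro _ rfl) (z i)) := by
      have := congrArg (gl (AlgHom.id A C) (Dvd.intro _ rfl : a i ∣ a i * a j)) (h2 i)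
      rw [gl_algebraMap, map_smul, map_sub, gl_algebraMap] at this
      exact this.symm
    have e2 : algebraMap C (Lo C (a i * a j)) (mu J C (t1 j)) =
        a j ^ K • (algebraMap C _ e - gl (AlgHom.id A C) (Dvd.intro_left _ rfl) (z j)) := by
      have := congrArg (gl (AlgHom.id A C) (Dvd.intro_left _ rfl : a j ∣ a i * a j)) (h2 j)
      rw [gl_algebraMap, map_smul, map_sub, gl_algebraMap] at this
      exact this.symm
    have e3 : algebraMap C (Lo C (a i * a j)) (mu J C (a j ^ K • t1 i - a i ^ K • t1 j)) =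
        (a i * a j) ^ K • (gl (AlgHom.id A C) (Dvd.intro_left _ rfl) (z j) -
          gl (AlgHom.id A C) (Dvd.intro _ rfl) (z i)) := by
      rw [map_sub, map_smul, map_smul, map_sub, ← Lo.algebraMap_smul', ← Lo.algebraMap_smul', e1, e2,
        smul_smul, smul_smul, mul_pow, mul_comm (a j ^ K), ← smul_sub]
      congr 1
      abel
    rw [e3]
    exact Subalgebra.smul_mem _ (sub_mem (Ra_map B₀ p _ (hz j)) (Ra_map B₀ p _ (hz i))) _
  choose L hL using h3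
  obtain ⟨Lm, hLLm⟩ : ∃ Lm, ∀ ij, L ij ≤ Lm :=
    ⟨Finset.univ.sup L, fun ij => Finset.le_sup (Finset.mem_univ ij)⟩
  obtain ⟨t', ht'⟩ := Nn_glue J B₀ p a hp hs (K + Lm) (fun i => a i ^ Lm • t1 i) (fun i j => by
    have h4 := Submodule.smul_mem _ ((a i * a j) ^ (Lm - L (i, j))) (hL (i, j))
    rw [smul_smul, ← pow_add, Nat.sub_add_cancel (hLLm (i, j))] at h4
    have h5 : a j ^ (K + Lm) • (a i ^ Lm • t1 i) - a i ^ (K + Lm) • (a j ^ Lm • t1 j) =
        (a i * a j) ^ Lm • (a j ^ K • t1 i - a i ^ K • t1 j) := by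
      rw [smul_sub, smul_smul, smul_smul, smul_smul, smul_smul]
      congr 2
      · ring
      · ring
    rw [h5]
    exact h4)
  refine ⟨t', fun i => ?_⟩
  obtain ⟨E, _, _, ⟨D⟩⟩ := exists_loc J B₀ p hJ hp hk (a i) (hE (a i) (ha i))
  refine D.mem_of_pow hJ hk (K + Lm) ?_
  have h5 : a i ^ (K + Lm) • algebraMap C (Lo C (a i)) (e - mu J C t') =
      a i ^ (K + Lm) • z i + algebraMap C (Lo C (a i)) (mu J C (a i ^ Lm • t1 i - a i ^ (K + Lm) • t')) := by
    have h6 := h2 i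
    rw [smul_sub, sub_eq_iff_eq_add] at h6
    have h7 : algebraMap C (Lo C (a i)) (mu J C (a i ^ Lm • t1 i - a i ^ (K + Lm) • t')) =
        a i ^ Lm • algebraMap C (Lo C (a i)) (mu J C (t1 i)) -
          a i ^ (K + Lm) • algebraMap C (Lo C (a i)) (mu J C t') := by
      rw [map_sub, (mu J C).map_smul, (mu J C).map_smul, map_sub, ← Lo.algebraMap_smul',
        ← Lo.algebraMap_smul']
    have h8 : a i ^ (K + Lm) • algebraMap C (Lo C (a i)) e =
        a i ^ Lm • algebraMap C (Lo C (a i)) (mu J C (t1 i)) + a i ^ (K + Lm) • z i := by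
      rw [Nat.add_comm K Lm, pow_add, mul_smul, h6, smul_add, mul_smul]
    rw [h7, map_sub, smul_sub, h8]
    abel
  rw [h5]
  exact add_mem (Subalgebra.smul_mem _ (hz i) _) (D.mu_mem hJ hk hp (ht' i))

end K73.SqRa
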