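import Groth.Agent.AdicRing.K73.SqProd
import Groth.Agent.Proet.EtaleLiftLoc
import Mathlib.RingTheory.TensorProduct.Quotient
/-!
# Nilpotent ideals: induction on the exponent
-/

set_option autoImplicit false
universe u v w
open TensorProduct K73.SqLoc K73.Excis K73.SqRa

namespace K73.SqInd

section basic

variable {A : Type u} [CommRing A] (N : Ideal A) (E : Type u) [CommRing E] [Algebra A E]

theorem inc_surjective : Function.Surjective
    (Algebra.TensorProduct.includeRight : E →ₐ[A] (A ⧸ N) ⊗[A] E) := by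
  intro x
  obtain ⟨y, rfl⟩ := (Algebra.TensorProduct.quotIdealMapEquivQuotTensor E N).surjective x
  obtain ⟨b, rfl⟩ := Ideal.Quotient.mk_surjective y
  exact ⟨b, (Algebra.TensorProduct.quotIdealMapEquivQuotTensor_mk E N b).symm⟩

theorem ker_inc : RingHom.ker
    (Algebra.TensorProduct.includeRight : E →ₐ[A] (A ⧸ N) ⊗[A] E) = N.map (algebraMap A E) := by
  ext b
  rw [RingHom.mem_ker, ← Ideal.Quotient.eq_zero_iff_mem]
  have := Algebra.TensorProduct.quotIdealMapEquivQuotTensor_mk E N b
  constructor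
  · intro h
    apply (Algebra.TensorProduct.quotIdealMapEquivQuotTensor E N).injective
    rw [map_zero]
    exact this.trans h
  · intro h
    refine this.symm.trans ?_
    rw [h, map_zero]

variable {N E} {J : Ideal A} {T : Type u} [CommRing T] [Algebra A T] [Algebra (A ⧸ N) T]
  [IsScalarTower A (A ⧸ N) T]

/-- The map `E / N E → T` -/
noncomputable def quo (ρ : E →ₐ[A] T) : (A ⧸ N) ⊗[A] E →ₐ[A ⧸ N] T :=
  Algebra.TensorProduct.lift (Algebra.ofId (A ⧸ N) T) ρ fun _ _ => Commute.all _ _

theorem quo_inc (ρ : E →ₐ[A] T) (e : E) :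
    quo (N := N) ρ (Algebra.TensorProduct.includeRight (R := A) (A := A ⧸ N) e) = ρ e := by
  simp [quo]

theorem quo_surjective {ρ : E →ₐ[A] T} (h : Function.Surjective ρ) :
    Function.Surjective (quo (N := N) ρ) := fun t => by
  obtain ⟨e, rfl⟩ := h t
  exact ⟨_, quo_inc ρ e⟩

theorem ker_quo {ρ : E →ₐ[A] T} (h : RingHom.ker ρ = J.map (algebraMap A E)) :
    RingHom.ker (quo (N := N) ρ) =
      (J.map (Ideal.Quotient.mk N)).map (algebraMap (A ⧸ N) ((A ⧸ N) ⊗[A] E)) := by
  rw [Ideal.map_map]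
  apply le_antisymm
  · intro x hx
    obtain ⟨e, rfl⟩ := inc_surjective N E x
    have h1 : e ∈ RingHom.ker ρ := by
      rw [RingHom.mem_ker, ← quo_inc (N := N)]
      exact hx
    rw [h] at h1
    have h2 : Algebra.TensorProduct.includeRight (R := A) (A := A ⧸ N) e ∈
        (J.map (algebraMap A E)).map
          (Algebra.TensorProduct.includeRight : E →ₐ[A] (A ⧸ N) ⊗[A] E).toRingHom :=
      Ideal.mem_map_of_mem _ h1
    rw [Ideal.map_map] at h2
    convert h2 using 2
    ext a
    simp [Algebra.TensorProduct.algebraMap_def]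
  · rw [Ideal.map_le_iff_le_comap]
    intro j hj
    change quo (N := N) ρ _ = 0
    have h1 : algebraMap A E j ∈ RingHom.ker ρ := by
      rw [h]; exact Ideal.mem_map_of_mem _ hj
    have h2 : ρ (algebraMap A E j) = 0 := h1
    rw [AlgHom.commutes] at h2
    rw [RingHom.comp_apply, AlgHom.commutes]
    change algebraMap (A ⧸ N) T (algebraMap A (A ⧸ N) j) = 0
    rw [← IsScalarTower.algebraMap_apply, h2]

theorem EtLift.quot (h : EtLift J T) : EtLift (J.map (Ideal.Quotient.mk N)) T := by
  obtain ⟨E, _, _, ρ, h1, h2, h3⟩ := h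
  exact ⟨(A ⧸ N) ⊗[A] E, inferInstance, inferInstance, quo ρ, inferInstance, quo_surjective h2,
    ker_quo h3⟩

theorem EtLift.of_etale [Algebra.Etale (A ⧸ N) T] : EtLift N T := by
  obtain ⟨E, _, _, h1, ⟨e⟩⟩ := Groth.Agent.Proet.EtaleLiftLoc.exists_etale_lift A (A ⧸ N) T
    fun s => ⟨1, isUnit_one, fun x _ => by
      rw [one_mul]; exact Ideal.Quotient.mk_surjective x⟩
  refine ⟨E, inferInstance, inferInstance,
    (e.restrictScalars A).toAlgHom.comp Algebra.TensorProduct.includeRight, h1, ?_, ?_⟩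
  · exact e.surjective.comp (inc_surjective N E)
  · rw [← ker_inc]
    ext x
    change e _ = 0 ↔ _ = 0
    rw [EmbeddingLike.map_eq_zero_iff]
    rfl

/-- Flatness of `C_a` passes to quotients of the base. -/
theorem flat_Lo_quot {C : Type u} [CommRing C] [Algebra A C] (a : A) [Module.Flat A (Lo C a)] :
    Module.Flat (A ⧸ N) (Lo (A := A ⧸ N) ((A ⧸ N) ⊗[A] C) (Ideal.Quotient.mk N a)) := by
  have e := IsLocalization.Away.tensorProductEquivTMulRight A (A ⧸ N) (algebraMap A C a) (Lo C a)
  have h : algebraMap (A ⧸ N) ((A ⧸ N) ⊗[A] C) (Ideal.Quotient.mk N a) =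
      (1 : A ⧸ N) ⊗ₜ[A] algebraMap A C a := by
    change algebraMap (A ⧸ N) ((A ⧸ N) ⊗[A] C) (algebraMap A (A ⧸ N) a) = _
    rw [← IsScalarTower.algebraMap_apply, Algebra.TensorProduct.algebraMap_apply,
      Algebra.algebraMap_eq_smul_one, Algebra.algebraMap_eq_smul_one, TensorProduct.smul_tmul]
  unfold Lo
  rw [h]
  exact Module.Flat.of_linearEquiv e.symm.toLinearEquiv

/-- If `C_a` is flat over `A` then the kernel of `C ⊗ J → C` is `a`-power torsion. -/
theorem htp_of_flat {C : Type u} [CommRing C] [Algebra A C] (a : A) [Module.Flat A (Lo C a)]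
    (t : C ⊗[A] J) (ht : mu J C t = 0) : ∃ k : ℕ, a ^ k • t = 0 := by
  let g : C →ₐ[A] Lo C a := IsScalarTower.toAlgHom A C (Lo C a)
  have h1 : tj J g t = 0 := by
    apply mu_injective_of_flat
    rw [mu_tj, ht, map_zero, map_zero]
  have hloc : IsLocalizedModule (Submonoid.powers a) g.toLinearMap := by
    rw [isLocalizedModule_iff_isLocalization, Algebra.algebraMapSubmonoid_powers]
    infer_instance
  have hloc2 : IsLocalizedModule (Submonoid.powers a) (tj J g) :=
    IsLocalizedModule.rTensor (R := A) A (Submonoid.powers a) (N := J) g.toLinearMap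
  obtain ⟨⟨_, k, rfl⟩, hk⟩ := (IsLocalizedModule.eq_zero_iff (Submonoid.powers a) (tj J g)).1 h1
  exact ⟨k, hk⟩

end basic

section nilp

variable {A : Type u} [CommRing A] {I J : Ideal A} {B C B₀ C₀ : Type u} [CommRing B] [CommRing C]
  [CommRing B₀] [CommRing C₀] [Algebra A B] [Algebra A C] [Algebra A B₀] [Algebra A C₀]
  [Algebra B C] [Algebra B₀ C₀] [IsScalarTower A B C] [IsScalarTower A B₀ C₀]
  {p : C →ₐ[A] C₀} {q : B →ₐ[A] B₀}

theorem surjMod_of_isNilpotent (hn : IsNilpotent J)
    (hp : RingHom.ker p = J.map (algebraMap A C)) (hq : Function.Surjective q)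
    (hps : Function.Surjective p)
    (hpq : ∀ b, p (algebraMap B C b) = algebraMap B₀ C₀ (q b))
    (hs : SurjMod B₀ C₀ (I.map (algebraMap A B₀))) : SurjMod B C (I.map (algebraMap A B)) := by
  let M : Submodule A C := LinearMap.range (IsScalarTower.toAlgHom A B C).toLinearMap ⊔
    (I.map (algebraMap A C)).restrictScalars A
  have h1 : ⊤ ≤ M ⊔ J • (⊤ : Submodule A C) := by
    intro c _
    obtain ⟨b₀, hb₀⟩ := hs (p c)
    obtain ⟨b, rfl⟩ := hq b₀
    rw [← hpq, ← map_sub, Ideal.map_map, ← IsScalarTower.algebraMap_eq] at hb₀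
    have h2 : I.map (algebraMap A C₀) = (I.map (algebraMap A C)).map p.toRingHom := by
      rw [Ideal.map_map]
      congr 1
      ext a
      exact (p.commutes a).symm
    rw [h2, Ideal.mem_map_iff_of_surjective p.toRingHom hps] at hb₀
    obtain ⟨i, hi, hi2⟩ := hb₀
    have h3 : c - algebraMap B C b - i ∈ J.map (algebraMap A C) := by
      rw [← hp, RingHom.mem_ker, map_sub, sub_eq_zero]
      exact hi2.symm
    have h4 : c = (algebraMap B C b + i) + (c - algebraMap B C b - i) := by ring
    rw [h4]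
    refine Submodule.add_mem_sup (Submodule.add_mem_sup ⟨b, rfl⟩ hi) ?_
    rw [Ideal.smul_top_eq_map]
    exact h3
  have h5 : ∀ k : ℕ, ⊤ ≤ M ⊔ J ^ k • (⊤ : Submodule A C) := by
    intro k
    induction k with
    | zero => rw [pow_zero, Ideal.one_eq_top, Submodule.top_smul]; exact le_sup_right
    | succ k ih =>
      refine ih.trans (sup_le le_sup_left ?_)
      calc J ^ k • (⊤ : Submodule A C) ≤ J ^ k • (M ⊔ J • (⊤ : Submodule A C)) :=
            Submodule.smul_mono le_rfl h1
        _ ≤ M ⊔ J ^ (k + 1) • (⊤ : Submodule A C) := by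
            rw [Submodule.smul_sup, pow_succ, Submodule.mul_smul]
            exact sup_le_sup_right Submodule.smul_le_right _
  obtain ⟨k, hk⟩ := hn
  have h6 := h5 k
  rw [hk] at h6
  intro c
  have h7 : c ∈ M := by
    have := h6 (Submodule.mem_top (x := c))
    simpa using this
  obtain ⟨_, ⟨b, rfl⟩, i, hi, rfl⟩ := Submodule.mem_sup.1 h7
  refine ⟨b, ?_⟩
  rw [Ideal.map_map, ← IsScalarTower.algebraMap_eq]
  have h8 : (IsScalarTower.toAlgHom A B C).toLinearMap b + i - algebraMap B C b = i :=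
    add_sub_cancel_left _ _
  rw [h8]
  exact hi

omit [IsScalarTower A B C] [IsScalarTower A B₀ C₀] in
theorem mem_range_comap_of_isNilpotent (hn : IsNilpotent J)
    (hq : RingHom.ker q = J.map (algebraMap A B)) (hqs : Function.Surjective q)
    (hpq : ∀ b, p (algebraMap B C b) = algebraMap B₀ C₀ (q b))
    (hr : ∀ P : PrimeSpectrum B₀, I.map (algebraMap A B₀) ≤ P.asIdeal →
      P ∈ Set.range (PrimeSpectrum.comap (algebraMap B₀ C₀)))
    (P : PrimeSpectrum B) (hP : I.map (algebraMap A B) ≤ P.asIdeal) :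
    P ∈ Set.range (PrimeSpectrum.comap (algebraMap B C)) := by
  have h1 : P ∈ Set.range (PrimeSpectrum.comap q.toRingHom) := by
    rw [range_comap_of_surjective _ _ hqs]
    have h2 : RingHom.ker q ≤ P.asIdeal := by
      rw [hq]
      obtain ⟨k, hk⟩ := hn
      intro x hx
      refine P.2.mem_of_pow_mem k ?_
      have h3 : x ^ k ∈ (J.map (algebraMap A B)) ^ k := Ideal.pow_mem_pow hx k
      rw [← Ideal.map_pow, hk, Ideal.zero_eq_bot, Ideal.map_bot] at h3
      rw [(Submodule.mem_bot B).1 h3]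
      exact zero_mem _
    exact h2
  obtain ⟨P₀, rfl⟩ := h1
  obtain ⟨Q₀, rfl⟩ := hr P₀ (by
    rw [Ideal.map_le_iff_le_comap]
    intro a ha
    have h2 := hP (Ideal.mem_map_of_mem _ ha)
    change q (algebraMap A B a) ∈ P₀.asIdeal at h2
    rw [AlgHom.commutes] at h2
    exact h2)
  refine ⟨PrimeSpectrum.comap p.toRingHom Q₀, ?_⟩
  rw [← PrimeSpectrum.comap_comp_apply, ← PrimeSpectrum.comap_comp_apply]
  congr 1
  ext b
  exact hpq b

end nilp

open SqProd in
/-- **The nilpotent case.** -/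
theorem main (n : ℕ) : ∀ {A : Type u} [CommRing A] {I J : Ideal A} (hI : I.FG) (hJ : J ^ (n + 1) = ⊥)
    {C C₀ B₀ : Type u} [CommRing C] [CommRing C₀] [CommRing B₀] [Algebra A C] [Algebra A C₀]
    [Algebra A B₀] [Algebra B₀ C₀] [IsScalarTower A B₀ C₀] [Module.Flat B₀ C₀]
    [Algebra.FormallyUnramified B₀ C₀] [Algebra.FiniteType A B₀]
    {p : C →ₐ[A] C₀} (hp : Function.Surjective p)
    (hk : RingHom.ker p = J.map (algebraMap A C))
    (hfl : ∀ a ∈ I, Module.Flat A (Lo C a))
    (hE : ∀ a ∈ I, EtLift J (Lo B₀ a)) (hs : SurjMod B₀ C₀ (I.map (algebraMap A B₀)))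
    (hr : ∀ P : PrimeSpectrum B₀, I.map (algebraMap A B₀) ≤ P.asIdeal →
      P ∈ Set.range (PrimeSpectrum.comap (algebraMap B₀ C₀)))
    (hB₀ : ∀ x ∈ J, algebraMap A B₀ x = 0),
    ∃ (B : Type u) (_ : CommRing B) (_ : Algebra A B) (j : B →ₐ[A] C) (q : B →ₐ[A] B₀),
      Function.Surjective q ∧ RingHom.ker q = J.map (algebraMap A B) ∧
      (∀ b, p (j b) = algebraMap B₀ C₀ (q b)) ∧ Algebra.FiniteType A B ∧
      (∀ a ∈ I, Algebra.Etale A (Localization.Away (algebraMap A B a))) ∧
      j.toRingHom.Flat ∧ j.toRingHom.FormallyUnramified := by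
  induction n with
  | zero =>
    intro A _ I J hI hJ C C₀ B₀ _ _ _ _ _ _ _ _ _ _ _ p hp hk hfl hE hs hr hB₀
    refine core (p := p) ?_ hp hk (fun t ht a ha => ?_) hE hI hs hr
    · intro x hx y _
      rw [zero_add, pow_one] at hJ
      rw [hJ] at hx
      rw [(Submodule.mem_bot A).1 hx, zero_mul]
    · have := hfl a ha
      exact htp_of_flat a t ht
  | succ n ih =>
    intro A _ I J hI hJ C C₀ B₀ _ _ _ _ _ _ _ _ _ _ _ p hp hk hfl hE hs hr hB₀
    let N : Ideal A := J ^ (n + 1)
    have hNJ : N ≤ J := Ideal.pow_le_self (Nat.succ_ne_zero n)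
    have hNN : ∀ x ∈ N, ∀ y ∈ N, x * y = 0 := by
      intro x hx y hy
      have h1 : x * y ∈ J ^ (n + 1 + 1) := by
        rw [pow_succ]
        exact Ideal.mul_mem_mul hx (hNJ hy)
      rw [hJ] at h1
      exact h1
    have hC₀ : ∀ x ∈ J, algebraMap A C₀ x = 0 := by
      intro x hx
      rw [← p.commutes]
      have : algebraMap A C x ∈ RingHom.ker p := by rw [hk]; exact Ideal.mem_map_of_mem _ hx
      exact this
    let iB : Algebra (A ⧸ N) B₀ :=
      (Ideal.Quotient.lift N (algebraMap A B₀) (fun x hx => hB₀ x (hNJ hx))).toAlgebra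
    let iC : Algebra (A ⧸ N) C₀ :=
      (Ideal.Quotient.lift N (algebraMap A C₀) (fun x hx => hC₀ x (hNJ hx))).toAlgebra
    have t1 : IsScalarTower A (A ⧸ N) B₀ := IsScalarTower.of_algebraMap_eq fun _ => rfl
    have t2 : IsScalarTower A (A ⧸ N) C₀ := IsScalarTower.of_algebraMap_eq fun _ => rfl
    have t3 : IsScalarTower (A ⧸ N) B₀ C₀ := IsScalarTower.of_algebraMap_eq'
      (Ideal.Quotient.ringHom_ext (by ext a; exact IsScalarTower.algebraMap_apply A B₀ C₀ a))
    have t4 : Algebra.FiniteType (A ⧸ N) B₀ :=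
      Algebra.FiniteType.of_restrictScalars_finiteType A (A ⧸ N) B₀
    have t10 : ∀ a : A, IsScalarTower A (A ⧸ N)
        (Localization.Away (algebraMap (A ⧸ N) B₀ (Ideal.Quotient.mk N a))) := fun a =>
      IsScalarTower.of_algebraMap_eq fun x =>
        (IsScalarTower.algebraMap_apply A B₀ _ x).trans
          (IsScalarTower.algebraMap_apply (A ⧸ N) B₀ _ (algebraMap A (A ⧸ N) x)).symm
    have hI' : (I.map (Ideal.Quotient.mk N)).map (algebraMap (A ⧸ N) B₀) =
        I.map (algebraMap A B₀) := by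
      rw [Ideal.map_map]; rfl
    obtain ⟨B', _, _, j', q', g1, g2, g3, g4, g5, g6, g7⟩ := ih (A := A ⧸ N)
      (I := I.map (Ideal.Quotient.mk N)) (J := J.map (Ideal.Quotient.mk N)) (hI.map _)
      (by rw [← Ideal.map_pow]; exact Ideal.map_quotient_self N) (p := quo (N := N) p)
      (quo_surjective hp) (ker_quo hk) (fun a' ha' => by
        obtain ⟨a, ha, rfl⟩ := (Ideal.mem_map_iff_of_surjective _ Ideal.Quotient.mk_surjective).1 ha'
        have := hfl a ha
        exact flat_Lo_quot a)
      (fun a' ha' => by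
        obtain ⟨a, ha, rfl⟩ := (Ideal.mem_map_iff_of_surjective _ Ideal.Quotient.mk_surjective).1 ha'
        exact @EtLift.quot A _ N J (Localization.Away (algebraMap (A ⧸ N) B₀ (Ideal.Quotient.mk N a)))
          _ _ _ (t10 a) (hE a ha))
      (by rw [hI']; exact hs) (by rw [hI']; exact hr) (by
        intro x hx
        obtain ⟨a, ha, rfl⟩ := (Ideal.mem_map_iff_of_surjective _ Ideal.Quotient.mk_surjective).1 hx
        exact hB₀ a ha)
    let iB' : Algebra A B' := ((algebraMap (A ⧸ N) B').comp (algebraMap A (A ⧸ N))).toAlgebra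
    have t5 : IsScalarTower A (A ⧸ N) B' := IsScalarTower.of_algebraMap_eq fun _ => rfl
    let iC' : Algebra B' ((A ⧸ N) ⊗[A] C) := j'.toRingHom.toAlgebra
    have t6 : IsScalarTower A B' ((A ⧸ N) ⊗[A] C) := IsScalarTower.of_algebraMap_eq fun a => by
      change _ = j' (algebraMap (A ⧸ N) B' (algebraMap A (A ⧸ N) a))
      rw [AlgHom.commutes, ← IsScalarTower.algebraMap_apply]
    have t7 : Module.Flat B' ((A ⧸ N) ⊗[A] C) := g6
    have t8 : Algebra.FormallyUnramified B' ((A ⧸ N) ⊗[A] C) := g7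
    have t9 : Algebra.FiniteType A B' := Algebra.FiniteType.trans (S := A ⧸ N) inferInstance g4
    have hn : IsNilpotent J := ⟨_, hJ⟩
    have hkC : RingHom.ker ((quo (N := N) p).restrictScalars A) =
        J.map (algebraMap A ((A ⧸ N) ⊗[A] C)) := by
      have h1 := ker_quo (N := N) hk
      rw [Ideal.map_map] at h1
      refine Eq.trans ?_ (h1.trans ?_)
      · rfl
      · congr 1
    have hkB : RingHom.ker (q'.restrictScalars A) = J.map (algebraMap A B') := by
      have h1 := g2
      rw [Ideal.map_map] at h1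
      refine Eq.trans ?_ (h1.trans ?_)
      · rfl
      · congr 1
    obtain ⟨B, _, _, j, q, f1, f2, f3, f4, f5, f6, f7⟩ := core (A := A) (I := I) (J := N) (C := C)
      (C₀ := (A ⧸ N) ⊗[A] C) (B₀ := B') (p := Algebra.TensorProduct.includeRight) hNN
      (inc_surjective N C) (ker_inc N C) (fun t ht a ha => by
        have := hfl a ha
        exact htp_of_flat a t ht) (fun a ha => by
        have := g5 (Ideal.Quotient.mk N a) (Ideal.mem_map_of_mem _ ha)
        exact EtLift.of_etale (N := N) (T := Localization.Away (algebraMap (A ⧸ N) B' (Ideal.Quotient.mk N a))))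
      hI (surjMod_of_isNilpotent (p := (quo (N := N) p).restrictScalars A) (q := q'.restrictScalars A)
        hn hkC g1 (quo_surjective hp) g3 hs)
      (mem_range_comap_of_isNilpotent (p := (quo (N := N) p).restrictScalars A)
        (q := q'.restrictScalars A) hn hkB g1 g3 hr)
    refine ⟨B, _, _, j, (q'.restrictScalars A).comp q, g1.comp f1, ?_, ?_, f4, f5, f6, f7⟩
    · have h1 : RingHom.ker ((q'.restrictScalars A).comp q) = (J.map (algebraMap A B')).comap q := by
        rw [← hkB]; rfl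
      have h2 : J.map (algebraMap A B') = (J.map (algebraMap A B)).map q.toRingHom := by
        rw [Ideal.map_map]
        congr 1
        ext a
        exact (q.commutes a).symm
      rw [h1, h2]
      refine (Ideal.comap_map_of_surjective q.toRingHom f1 _).trans ?_
      refine le_antisymm (sup_le le_rfl ?_) le_sup_left
      intro x hx
      have h3 : x ∈ RingHom.ker q := hx
      rw [f2] at h3
      exact Ideal.map_mono hNJ h3
    · intro b
      have h1 := g3 (q b)
      have h2 := f3 b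
      rw [AlgHom.comp_apply]
      refine Eq.trans ?_ h1
      refine Eq.trans ?_ (congrArg _ h2)
      exact (quo_inc p (j b)).symm

end K73.SqInd
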