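import Groth.Agent.AdicRing.K73.SqAlg
import Groth.Agent.AdicRing.K73.SqFlat
import Mathlib.RingTheory.RingHom.Flat
import Mathlib.RingTheory.RingHom.Unramified
/-!
# Lifting along a square-zero ideal: the faithfully flat case
-/

set_option autoImplicit false
universe u v w
open TensorProduct K73.SqLoc K73.Excis K73.SqCore K73.SqTors

namespace K73.SqRa

variable {A : Type u} [CommRing A] {I J : Ideal A}
  {C C₀ : Type u} [CommRing C] [CommRing C₀] [Algebra A C] [Algebra A C₀]
  {B₀ : Type u} [CommRing B₀] [Algebra A B₀] [Algebra B₀ C₀] [IsScalarTower A B₀ C₀]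
  [Module.FaithfullyFlat B₀ C₀]
  {p : C →ₐ[A] C₀}

/-- The additive map `C ⊗_A J → K ⊗_B C`, for `K` an ideal of `B` containing `J B`. -/
noncomputable def sig {B : Type u} [CommRing B] [Algebra A B] [Algebra B C] [IsScalarTower A B C]
    (K : Ideal B) (hK : ∀ j ∈ J, algebraMap A B j ∈ K) : C ⊗[A] J →+ K ⊗[B] C :=
  TensorProduct.liftAddHom
    { toFun := fun c =>
        { toFun := fun j => (⟨algebraMap A B j, hK j j.2⟩ : K) ⊗ₜ[B] c
          map_zero' := by
            have : (⟨algebraMap A B ((0 : J) : A), hK _ (0 : J).2⟩ : K) = 0 := by ext; simp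
            rw [this, TensorProduct.zero_tmul]
          map_add' := fun j j' => by
            rw [← TensorProduct.add_tmul]
            congr 1
            ext; simp }
      map_zero' := by
        ext j; simp
      map_add' := fun c c' => by
        ext j
        simp [TensorProduct.tmul_add] }
    (fun r c j => by
      change (⟨algebraMap A B j, hK j j.2⟩ : K) ⊗ₜ[B] (r • c) =
        (⟨algebraMap A B ((r • j : J) : A), hK _ (r • j : J).2⟩ : K) ⊗ₜ[B] c
      rw [← algebraMap_smul B r c, ← TensorProduct.smul_tmul]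
      congr 1
      ext
      simp [Algebra.smul_def])

theorem sig_tmul {B : Type u} [CommRing B] [Algebra A B] [Algebra B C] [IsScalarTower A B C]
    (K : Ideal B) (hK : ∀ j ∈ J, algebraMap A B j ∈ K) (c : C) (j : J) :
    sig K hK (c ⊗ₜ[A] j) = (⟨algebraMap A B j, hK j j.2⟩ : K) ⊗ₜ[B] c := rfl

theorem sig_surjective {B : Type u} [CommRing B] [Algebra A B] [Algebra B C] [IsScalarTower A B C]
    (K : Ideal B) (hK : ∀ j ∈ J, algebraMap A B j ∈ K) (hK' : K ≤ J.map (algebraMap A B)) :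
    Function.Surjective (sig (C := C) K hK) := by
  have hle : J.map (algebraMap A B) ≤ K := by
    rw [Ideal.map_le_iff_le_comap]; exact hK
  have key : ∀ (x : B) (hx : x ∈ J.map (algebraMap A B)) (c : C),
      ∃ t, sig K hK t = (⟨x, hle hx⟩ : K) ⊗ₜ[B] c := by
    intro x hx
    refine Submodule.span_induction (p := fun x hx => ∀ c : C,
      ∃ t, sig K hK t = (⟨x, hle hx⟩ : K) ⊗ₜ[B] c) ?_ ?_ ?_ ?_ hx
    · rintro _ ⟨j, hj, rfl⟩ c
      exact ⟨c ⊗ₜ[A] ⟨j, hj⟩, rfl⟩
    · intro c
      refine ⟨0, ?_⟩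
      have : (⟨0, hle (zero_mem _)⟩ : K) = 0 := rfl
      rw [map_zero, this, TensorProduct.zero_tmul]
    · intro x y hx hy h1 h2 c
      obtain ⟨t, ht⟩ := h1 c
      obtain ⟨t', ht'⟩ := h2 c
      refine ⟨t + t', ?_⟩
      rw [map_add, ht, ht', ← TensorProduct.add_tmul]
      rfl
    · intro b x hx h1 c
      obtain ⟨t, ht⟩ := h1 (b • c)
      refine ⟨t, ?_⟩
      rw [ht, ← TensorProduct.smul_tmul]
      rfl
  intro z
  induction z with
  | zero => exact ⟨0, map_zero _⟩
  | add x y hx hy =>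
    obtain ⟨t, rfl⟩ := hx
    obtain ⟨t', rfl⟩ := hy
    exact ⟨t + t', map_add _ _ _⟩
  | tmul x c => exact key x.1 (hK' x.2) c

theorem lid_sig {B : Type u} [CommRing B] [Algebra A B] [Algebra B C] [IsScalarTower A B C]
    (K : Ideal B) (hK : ∀ j ∈ J, algebraMap A B j ∈ K) (t : C ⊗[A] J) :
    TensorProduct.lid B C (K.subtype.rTensor C (sig K hK t)) = mu J C t := by
  induction t with
  | zero => simp
  | add x y hx hy => rw [map_add, map_add, map_add, hx, hy, map_add]
  | tmul c j =>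
    rw [sig_tmul, LinearMap.rTensor_tmul, TensorProduct.lid_tmul, mu_tmul]
    exact algebraMap_smul B (j : A) c

variable (hJ : ∀ x ∈ J, ∀ y ∈ J, x * y = 0) (hp : Function.Surjective p)
  (hk : RingHom.ker p = J.map (algebraMap A C))
  (htp : ∀ t : C ⊗[A] J, mu J C t = 0 → ∀ a ∈ I, ∃ k : ℕ, a ^ k • t = 0)
  (hE : ∀ a ∈ I, EtLift J (Lo B₀ a))
  (hI : I.FG) (hs : SurjMod B₀ C₀ (I.map (algebraMap A B₀)))

include hJ hp hk htp hE hI hs in
theorem rTensor_injective (K : Ideal (Bs I B₀ p)) (hK : ∀ j ∈ J, algebraMap A (Bs I B₀ p) j ∈ K)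
    (hK' : K ≤ J.map (algebraMap A (Bs I B₀ p))) : Function.Injective (K.subtype.rTensor C) := by
  rw [injective_iff_map_eq_zero]
  intro z hz
  obtain ⟨t, rfl⟩ := sig_surjective K hK hK' z
  have h1 : mu J C t = 0 := by rw [← lid_sig K hK, hz, map_zero]
  obtain ⟨n, a, ha, hspan⟩ := exists_gens hI
  have hs1 : SurjMod B₀ C₀ (Ideal.span (Set.range fun i => algebraMap A B₀ (a i))) := by
    rw [← map_span_range, hspan]; exact hs
  have h2 : t ∈ Nn J B₀ p := Nn_of_pow J B₀ p a hs1 t fun i => by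
    obtain ⟨k, hk⟩ := htp t h1 (a i) (ha i)
    exact ⟨k, by rw [hk]; exact zero_mem _⟩
  obtain ⟨s, rfl⟩ := exists_of_mem_Nn J B₀ p hJ hp hk (Bs I B₀ p)
    (fun b₀ => exists_lift hJ hp hk htp hE hI hs b₀) h2
  have h3 : ∀ s : Bs I B₀ p ⊗[A] J, ∃ x : K, sig K hK (tj J (Bs I B₀ p).val s) = x ⊗ₜ[Bs I B₀ p] (1 : C) ∧
      (x : Bs I B₀ p) = mu J _ s := by
    intro s
    induction s with
    | zero => exact ⟨0, by simp, by simp⟩
    | add x y hx hy =>
      obtain ⟨x1, h1, h2⟩ := hx
      obtain ⟨y1, h3, h4⟩ := hy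
      exact ⟨x1 + y1, by rw [map_add, map_add, h1, h3, TensorProduct.add_tmul],
        by rw [map_add, ← h2, ← h4]; rfl⟩
    | tmul b j =>
      refine ⟨b • ⟨algebraMap A _ j, hK j j.2⟩, ?_, ?_⟩
      · rw [LinearMap.rTensor_tmul, AlgHom.toLinearMap_apply, sig_tmul, TensorProduct.smul_tmul]
        congr 1
        rw [Algebra.smul_def, mul_one]
        rfl
      · rw [mu_tmul, Algebra.smul_def, mul_comm]
        rfl
  obtain ⟨x, hx1, hx2⟩ := h3 s
  rw [mu_tj] at h1
  have h4 : mu J (Bs I B₀ p) s = 0 := Subtype.ext h1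
  rw [h4] at hx2
  have h5 : x = 0 := Subtype.ext hx2
  rw [hx1, h5, TensorProduct.zero_tmul]

include hJ hp hk htp hE hI hs in
/-- **The faithfully flat square-zero case.** -/
theorem core_ff [Algebra.FiniteType A B₀] [Algebra.FormallyUnramified B₀ C₀] :
    ∃ (B : Type u) (_ : CommRing B) (_ : Algebra A B) (j : B →ₐ[A] C) (q : B →ₐ[A] B₀),
      Function.Surjective q ∧ RingHom.ker q = J.map (algebraMap A B) ∧
      (∀ b, p (j b) = algebraMap B₀ C₀ (q b)) ∧ Algebra.FiniteType A B ∧
      (∀ a ∈ I, Algebra.Etale A (Localization.Away (algebraMap A B a))) ∧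
      j.toRingHom.Flat ∧ j.toRingHom.FormallyUnramified := by
  have hinj : Function.Injective (ff (A := A) (C₀ := C₀) B₀) := ff_injective
  let q : Bs I B₀ p →ₐ[A] B₀ := (AlgEquiv.ofInjective _ hinj).symm.toAlgHom.comp
    ((p.comp (Bs I B₀ p).val).codRestrict (ff (C₀ := C₀) B₀).range (fun b => by
      obtain ⟨b₀, hb₀⟩ := exists_of_mem hJ hp hk hE hI hs b.2
      exact ⟨b₀, hb₀.symm⟩))
  have hq : ∀ b : Bs I B₀ p, p b = algebraMap B₀ C₀ (q b) := by
    intro b
    have h1 := congrArg Subtype.val (AlgEquiv.apply_symm_apply (AlgEquiv.ofInjective _ hinj)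
      (((p.comp (Bs I B₀ p).val).codRestrict (ff (C₀ := C₀) B₀).range (fun b => by
      obtain ⟨b₀, hb₀⟩ := exists_of_mem hJ hp hk hE hI hs b.2
      exact ⟨b₀, hb₀.symm⟩)) b))
    exact h1.symm
  have hqs : Function.Surjective q := by
    intro b₀
    obtain ⟨b, hb, hpb⟩ := exists_lift hJ hp hk htp hE hI hs b₀
    exact ⟨⟨b, hb⟩, hinj ((hq ⟨b, hb⟩).symm.trans hpb)⟩
  have hqk : RingHom.ker q = J.map (algebraMap A (Bs I B₀ p)) := by
    apply le_antisymm
    · intro b hb
      have hb' : q b = 0 := hb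
      obtain ⟨s, hs⟩ := exists_mu hJ hp hk htp hE hI hs (b := b) (by rw [hq, hb', map_zero])
      exact (mem_range_mu J _).1 ⟨s, hs⟩
    · rw [Ideal.map_le_iff_le_comap]
      intro j hj
      change q (algebraMap A _ j) = 0
      apply hinj
      rw [map_zero]
      change algebraMap B₀ C₀ (q (algebraMap A _ j)) = 0
      rw [← hq]
      have h1 : algebraMap A C j ∈ RingHom.ker p := by
        rw [hk]; exact Ideal.mem_map_of_mem _ hj
      exact h1
  refine ⟨Bs I B₀ p, inferInstance, inferInstance, (Bs I B₀ p).val, q, hqs, hqk, hq, ?_, ?_, ?_⟩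
  · -- finite type
    have h0 : ∀ j ∈ J, algebraMap A B₀ j = 0 := by
      intro j hj
      rw [← q.commutes]
      have h1 : algebraMap A (Bs I B₀ p) j ∈ RingHom.ker q := by
        rw [hqk]; exact Ideal.mem_map_of_mem _ hj
      exact h1
    have h1 : (algebraMap A (Bs I B₀ p)).FiniteType := by
      refine Groth.Agent.Flat2C.ThickAlg.finiteType_of_isNilpotent (algebraMap A (Bs I B₀ p))
        (Ideal.Quotient.mk J) q.toRingHom (Ideal.Quotient.lift J (algebraMap A B₀) h0) ?_
        Ideal.Quotient.mk_surjective hqs ?_ ?_ ?_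
      · ext a
        exact q.commutes a
      · rw [Ideal.mk_ker]
        exact hqk
      · rw [Ideal.mk_ker]
        have := isNilpotent_map J hJ (T := A)
        rwa [Algebra.algebraMap_self, Ideal.map_id] at this
      · refine RingHom.FiniteType.of_comp_finiteType (f := Ideal.Quotient.mk J) ?_
        have h2 : (Ideal.Quotient.lift J (algebraMap A B₀) h0).comp (Ideal.Quotient.mk J) =
            algebraMap A B₀ := by
          ext a
          rfl
        rw [h2]
        exact RingHom.finiteType_algebraMap.2 inferInstance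
    exact RingHom.finiteType_algebraMap.1 h1
  · intro a ha
    obtain ⟨E, _, _, ⟨D⟩⟩ := exists_loc J B₀ p hJ hp hk a (hE a ha)
    obtain ⟨e⟩ := nonempty_equiv hJ hp hk htp hE hI hs ha D
    have := D.etale
    exact Algebra.Etale.of_equiv e
  · let i1 : Algebra (Bs I B₀ p) B₀ := q.toRingHom.toAlgebra
    let i2 : Algebra C C₀ := p.toRingHom.toAlgebra
    have i4 : IsScalarTower (Bs I B₀ p) C C₀ := IsScalarTower.of_algebraMap_eq fun _ => rfl
    have i5 : IsScalarTower (Bs I B₀ p) B₀ C₀ := IsScalarTower.of_algebraMap_eq fun b => hq b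
    have hk1 : RingHom.ker (algebraMap (Bs I B₀ p) B₀) = J.map (algebraMap A (Bs I B₀ p)) := hqk
    have hk2 : RingHom.ker (algebraMap C C₀) =
        (RingHom.ker (algebraMap (Bs I B₀ p) B₀)).map (algebraMap (Bs I B₀ p) C) := by
      rw [hk1, Ideal.map_map, ← IsScalarTower.algebraMap_eq]
      exact hk
    obtain ⟨h1, h2⟩ := K73.SqFlat.flat_and_formallyUnramified (B := Bs I B₀ p) (B₀ := B₀) (C := C)
      (C₀ := C₀) hqs hp hk2 (by rw [hk1]; exact isNilpotent_map J hJ)
      (rTensor_injective hJ hp hk htp hE hI hs _ (fun j hj => by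
        rw [hk1]; exact Ideal.mem_map_of_mem _ hj) hk1.le)
    exact ⟨h1, h2⟩

end K73.SqRa
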