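import Groth.Agent.AdicRing.K73.SqMain
import Groth.Agent.Proet.LocZ
import Mathlib.RingTheory.Unramified.Pi
/-!
# Products: auxiliary statements for the square-zero lifting problem
-/

set_option autoImplicit false
universe u v w
open TensorProduct K73.SqLoc K73.Excis

namespace K73.SqProd

theorem formallyUnramified_key {R P B : Type*} [CommRing R] [CommRing P] [CommRing B]
    [Algebra R P] [Algebra R B] {K : Ideal B} (hK : K ^ 2 = ⊥) {f g : P →ₐ[R] B}
    (hfg : ∀ x, f x - g x ∈ K)
    {U : Type*} [CommRing U] [Algebra R U] [Algebra.FormallyUnramified R U]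
    (i : U → P) (e : P) (he : e * e = e) (hi1 : i 1 = e) (hia : ∀ x y, i (x + y) = i x + i y)
    (hi0 : i 0 = 0) (him : ∀ x y, i (x * y) = i x * i y)
    (hir : ∀ r : R, i (algebraMap R U r) = algebraMap R _ r * e) (x : U) : f (i x) = g (i x) := by
  have e1 : f e * f e = f e := by rw [← map_mul, he]
  have e2 : g e * g e = g e := by rw [← map_mul, he]
  have hfe : f e = g e := by
    have h2 : (f e - g e) * (f e - g e) = 0 := by
      have : (f e - g e) * (f e - g e) ∈ K ^ 2 := by
        rw [pow_two]; exact Ideal.mul_mem_mul (hfg e) (hfg e)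
      rw [hK] at this; exact this
    have h3 : (f e - g e) * (f e - g e) * (f e - g e) = f e - g e := by
      linear_combination (f e + 1 - 3 * g e) * e1 + (3 * f e - g e - 1) * e2
    rw [h2, zero_mul] at h3
    exact (sub_eq_zero.1 h3.symm)
  let L : Ideal B := Ideal.span {1 - f e}
  let q := Ideal.Quotient.mk L
  have hq : q (f e) = 1 := by
    rw [eq_comm, ← sub_eq_zero, ← map_one q, ← map_sub]
    exact Ideal.Quotient.eq_zero_iff_mem.2 (Ideal.subset_span rfl)
  have hq' : q (g e) = 1 := by rw [← hfe, hq]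
  let mkf : ∀ (h : P →ₐ[R] B) (hh : q (h e) = 1), U →ₐ[R] B ⧸ L := fun h hh =>
    { toFun := fun x => q (h (i x))
      map_one' := by simp only [hi1, hh]
      map_mul' := fun x y => by simp only [him, map_mul]
      map_zero' := by simp only [hi0, map_zero]
      map_add' := fun x y => by simp only [hia, map_add]
      commutes' := fun r => by
        simp only [hir, map_mul, hh, mul_one]
        rw [AlgHom.commutes]
        rfl }
  have h1 : mkf f hq = mkf g hq' := by
    refine Algebra.FormallyUnramified.ext (K.map q) ⟨2, ?_⟩ fun x => ?_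
    · rw [← Ideal.map_pow, hK, Ideal.map_bot]; rfl
    · rw [Ideal.Quotient.eq]
      change q _ - q _ ∈ _
      rw [← map_sub]
      exact Ideal.mem_map_of_mem _ (hfg _)
  have h2 : f (i x) - g (i x) ∈ L := by
    rw [← Ideal.Quotient.eq]
    exact DFunLike.congr_fun h1 x
  obtain ⟨b, hb⟩ := Ideal.mem_span_singleton'.1 h2
  have h4 : e * i x = i x := by rw [← hi1, ← him, one_mul]
  have h3 : f e * (f (i x) - g (i x)) = f (i x) - g (i x) := by
    rw [mul_sub, ← map_mul, h4, hfe, ← map_mul, h4]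
  rw [← sub_eq_zero, ← h3, ← hb]
  linear_combination -b * e1

theorem formallyUnramified_prod {R S T : Type*} [CommRing R] [CommRing S] [CommRing T]
    [Algebra R S] [Algebra R T] [Algebra.FormallyUnramified R S] [Algebra.FormallyUnramified R T] :
    Algebra.FormallyUnramified R (S × T) := by
  rw [Algebra.FormallyUnramified.iff_comp_injective]
  intro B _ _ K hK f g hfg
  have hfg' : ∀ x, f x - g x ∈ K := fun x => by
    have := DFunLike.congr_fun hfg x
    exact Ideal.Quotient.eq.1 this
  ext x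
  obtain ⟨s, t⟩ := x
  have h1 := formallyUnramified_key hK hfg' (fun s : S => ((s, 0) : S × T)) (1, 0) (by simp) rfl
    (by simp) rfl (by simp) (fun r => by simp) s
  have h2 := formallyUnramified_key hK hfg' (fun t : T => ((0, t) : S × T)) (0, 1) (by simp) rfl
    (by simp) rfl (by simp) (fun r => by simp) t
  have h3 : ((s, t) : S × T) = (s, 0) + (0, t) := by simp
  rw [h3, map_add, map_add, h1, h2]

section

variable {A : Type u} [CommRing A] {J : Ideal A}

theorem mem_map_prod {S T : Type*} [CommRing S] [CommRing T] [Algebra A S] [Algebra A T] (J : Ideal A)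
    (x : S × T) : x ∈ J.map (algebraMap A (S × T)) ↔
      x.1 ∈ J.map (algebraMap A S) ∧ x.2 ∈ J.map (algebraMap A T) := by
  rw [Ideal.ideal_prod_eq (J.map (algebraMap A (S × T))), Ideal.mem_prod, Ideal.map_map, Ideal.map_map]
  rfl

theorem mem_map_pi {ι : Type*} [Finite ι] {S : ι → Type*} [∀ i, CommRing (S i)] [∀ i, Algebra A (S i)]
    (J : Ideal A) (x : ∀ i, S i) : x ∈ J.map (algebraMap A (∀ i, S i)) ↔
      ∀ i, x i ∈ J.map (algebraMap A (S i)) := by
  classical
  have := Fintype.ofFinite ι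
  constructor
  · intro hx i
    have : (Pi.evalRingHom S i) x ∈ (J.map (algebraMap A (∀ i, S i))).map (Pi.evalRingHom S i) :=
      Ideal.mem_map_of_mem _ hx
    rw [Ideal.map_map] at this
    exact this
  · intro hx
    rw [← Finset.univ_sum_single x]
    refine Ideal.sum_mem _ fun i _ => ?_
    refine Submodule.span_induction (p := fun y _ => Pi.single i y ∈ J.map (algebraMap A (∀ i, S i)))
      ?_ ?_ ?_ ?_ (hx i)
    · rintro _ ⟨j, hj, rfl⟩
      have : (Pi.single i (algebraMap A (S i) j) : ∀ i, S i) =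
          Pi.single i 1 * algebraMap A (∀ i, S i) j := by
        ext k
        by_cases h : k = i
        · subst h; simp
        · simp [h]
      rw [this]
      exact Ideal.mul_mem_left _ _ (Ideal.mem_map_of_mem _ hj)
    · simp
    · intro y z _ _ h1 h2
      rw [Pi.single_add]
      exact add_mem h1 h2
    · intro s y _ h1
      have : (Pi.single i (s • y) : ∀ i, S i) = Pi.single i s * Pi.single i y := by
        rw [← Pi.single_mul]; rfl
      rw [this]
      exact Ideal.mul_mem_left _ _ h1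

end

section core

open K73.SqRa

variable {A : Type u} [CommRing A] {I J : Ideal A}
  {C C₀ : Type u} [CommRing C] [CommRing C₀] [Algebra A C] [Algebra A C₀]
  {B₀ : Type u} [CommRing B₀] [Algebra A B₀] [Algebra B₀ C₀] [IsScalarTower A B₀ C₀]
  [Module.Flat B₀ C₀]
  {p : C →ₐ[A] C₀}

/-- **The square-zero case.** -/
theorem core (hJ : ∀ x ∈ J, ∀ y ∈ J, x * y = 0) (hp : Function.Surjective p)
    (hk : RingHom.ker p = J.map (algebraMap A C))
    (htp : ∀ t : C ⊗[A] J, mu J C t = 0 → ∀ a ∈ I, ∃ k : ℕ, a ^ k • t = 0)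
    (hE : ∀ a ∈ I, EtLift J (Lo B₀ a))
    (hI : I.FG) (hs : SurjMod B₀ C₀ (I.map (algebraMap A B₀)))
    [Algebra.FiniteType A B₀] [Algebra.FormallyUnramified B₀ C₀]
    (hr : ∀ P : PrimeSpectrum B₀, I.map (algebraMap A B₀) ≤ P.asIdeal →
      P ∈ Set.range (PrimeSpectrum.comap (algebraMap B₀ C₀))) :
    ∃ (B : Type u) (_ : CommRing B) (_ : Algebra A B) (j : B →ₐ[A] C) (q : B →ₐ[A] B₀),
      Function.Surjective q ∧ RingHom.ker q = J.map (algebraMap A B) ∧
      (∀ b, p (j b) = algebraMap B₀ C₀ (q b)) ∧ Algebra.FiniteType A B ∧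
      (∀ a ∈ I, Algebra.Etale A (Localization.Away (algebraMap A B a))) ∧
      j.toRingHom.Flat ∧ j.toRingHom.FormallyUnramified := by
  classical
  obtain ⟨s, hsI⟩ := id hI
  let E : Finset B₀ := s.image (algebraMap A B₀)
  have hE0 : ∀ f : E, ∃ a ∈ I, algebraMap A B₀ a = f := by
    rintro ⟨f, hf⟩
    obtain ⟨a, ha, rfl⟩ := Finset.mem_image.1 hf
    exact ⟨a, by rw [← hsI]; exact Ideal.subset_span ha, rfl⟩
  have hE' : ∀ f : E, EtLift J (Localization.Away (f : B₀)) := by
    intro f
    obtain ⟨a, ha, h⟩ := hE0 f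
    rw [← h]
    exact hE a ha
  choose EE i1 i2 ρ h1 h2 h3 using hE'
  let T := ∀ f : E, Localization.Away (f : B₀)
  let ρ' : (∀ f, EE f) →ₐ[A] T := AlgHom.pi (fun f => (ρ f).comp (Pi.evalAlgHom A _ f))
  let p' : C × (∀ f, EE f) →ₐ[A] C₀ × T :=
    (p.comp (AlgHom.fst A C (∀ f, EE f))).prod (ρ'.comp (AlgHom.snd A C (∀ f, EE f)))
  have hp' : Function.Surjective p' := by
    rintro ⟨c, t⟩
    obtain ⟨x, rfl⟩ := hp c
    choose y hy using fun f => h2 f (t f)
    exact ⟨(x, y), Prod.ext rfl (funext hy)⟩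
  have hk' : RingHom.ker p' = J.map (algebraMap A (C × (∀ f, EE f))) := by
    ext ⟨x, y⟩
    rw [mem_map_prod, mem_map_pi, ← hk]
    have h4 : (x, y) ∈ RingHom.ker p' ↔ p x = 0 ∧ ∀ f, ρ f (y f) = 0 := by
      rw [RingHom.mem_ker, Prod.ext_iff]
      exact and_congr Iff.rfl funext_iff
    rw [h4]
    refine and_congr Iff.rfl (forall_congr' fun f => ?_)
    rw [← h3 f]
    rfl
  have hflat : Module.Flat A (∀ f, EE f) := by
    have : ∀ f, Module.Flat A (EE f) := fun f => inferInstance
    exact Groth.Agent.Proet.LocZ.flat_pi _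
  have htp' : ∀ t : (C × (∀ f, EE f)) ⊗[A] J, mu J (C × (∀ f, EE f)) t = 0 →
      ∀ a ∈ I, ∃ k : ℕ, a ^ k • t = 0 := by
    intro t ht a ha
    have e1 : mu J C (tj J (AlgHom.fst A C (∀ f, EE f)) t) = 0 := by
      rw [mu_tj, ht, map_zero]
    have e2 : tj J (AlgHom.snd A C (∀ f, EE f)) t = 0 := by
      apply mu_injective_of_flat
      rw [mu_tj, ht, map_zero, map_zero]
    obtain ⟨k, hk⟩ := htp _ e1 a ha
    refine ⟨k, ?_⟩
    apply (TensorProduct.prodLeft A A C (∀ f, EE f) J).injective
    have key : ∀ t : (C × (∀ f, EE f)) ⊗[A] J, TensorProduct.prodLeft A A C (∀ f, EE f) J t =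
        (tj J (AlgHom.fst A C (∀ f, EE f)) t, tj J (AlgHom.snd A C (∀ f, EE f)) t) := by
      intro t
      induction t with
      | zero => rw [map_zero, map_zero, map_zero]; rfl
      | add x y hx hy => rw [map_add, map_add, map_add, hx, hy]; rfl
      | tmul c j => rfl
    rw [map_smul, key, e2, map_zero]
    exact Prod.ext hk (smul_zero _)
  have hs' : SurjMod B₀ (C₀ × T) (I.map (algebraMap A B₀)) := by
    rintro ⟨c, t⟩
    obtain ⟨b, hb⟩ := hs c
    refine ⟨b, ?_⟩
    rw [mem_map_prod, mem_map_pi]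
    refine ⟨hb, fun f => ?_⟩
    have h4 : (I.map (algebraMap A B₀)).map (algebraMap B₀ (Localization.Away (f : B₀))) = ⊤ := by
      obtain ⟨a, ha, h⟩ := hE0 f
      refine Ideal.eq_top_of_isUnit_mem _ (Ideal.mem_map_of_mem _ (Ideal.mem_map_of_mem _ ha)) ?_
      rw [h]
      exact IsLocalization.Away.algebraMap_isUnit (f : B₀)
    rw [h4]
    exact Submodule.mem_top
  have hff : Module.FaithfullyFlat B₀ (C₀ × T) :=
    Groth.Agent.Proet.LocZ.faithfullyFlat_cover E C₀ fun P hP => by
      apply hr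
      rw [← hsI, Ideal.map_span, Ideal.span_le]
      rintro _ ⟨a, ha, rfl⟩
      exact hP _ (Finset.mem_image_of_mem _ ha)
  have hun : Algebra.FormallyUnramified B₀ (C₀ × T) := by
    have : ∀ f : E, Algebra.FormallyUnramified B₀ (Localization.Away (f : B₀)) := fun f =>
      Algebra.FormallyUnramified.of_isLocalization (Submonoid.powers (f : B₀))
    have : Algebra.FormallyUnramified B₀ T := (Algebra.FormallyUnramified.pi_iff _).2 this
    exact formallyUnramified_prod
  obtain ⟨B, _, _, j, q, g1, g2, g3, g4, g5, g6, g7⟩ :=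
    core_ff (p := p') hJ hp' hk' htp' hE hI hs'
  refine ⟨B, _, _, (AlgHom.fst A C (∀ f, EE f)).comp j, q, g1, g2, fun b => ?_, g4, g5, ?_, ?_⟩
  · exact congrArg Prod.fst (g3 b)
  · exact RingHom.Flat.comp g6 (Groth.Agent.Proet.LocZ.flat_fst C (∀ f, EE f))
  · exact RingHom.FormallyUnramified.comp g7
      (RingHom.FormallyUnramified.of_surjective (f := RingHom.fst C (∀ f, EE f)) Prod.fst_surjective)

end core

end K73.SqProd
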