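import Groth.Agent.AdicRing.K73.SqCore
/-!
# The étale lift over `D(a)` as a subalgebra of `Lo C a`
-/

set_option autoImplicit false
universe u v w
open TensorProduct K73.SqLoc K73.Excis K73.SqCore

namespace K73.SqRa

variable {A : Type u} [CommRing A] (J : Ideal A)
  {C C₀ : Type u} [CommRing C] [CommRing C₀] [Algebra A C] [Algebra A C₀]
  (B₀ : Type u) [CommRing B₀] [Algebra A B₀] [Algebra B₀ C₀] [IsScalarTower A B₀ C₀]
  (p : C →ₐ[A] C₀)

/-- Étale lifts of the `A`-algebra `T` killed by `J`. -/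
def EtLift (J : Ideal A) (T : Type u) [CommRing T] [Algebra A T] : Prop :=
  ∃ (E : Type u) (_ : CommRing E) (_ : Algebra A E) (ρ : E →ₐ[A] T),
    Algebra.Etale A E ∧ Function.Surjective ρ ∧ RingHom.ker ρ = J.map (algebraMap A E)

/-- Generators of `Ra`: images of étale algebras mapping, modulo `J`, to `B₀`. -/
def Rset (a : A) : Set (Lo C a) :=
  {z | ∃ (E : Type u) (_ : CommRing E) (_ : Algebra A E) (φ : E →ₐ[A] Lo C a) (u : E),
    Algebra.Etale A E ∧ (∀ u, ∃ b, gl p (dvd_refl a) (φ u) = gl (ff (C₀ := C₀) B₀) (dvd_refl a) b) ∧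
      φ u = z}

/-- The étale lift of `Lo B₀ a` inside `Lo C a`. -/
def Ra (a : A) : Subalgebra A (Lo C a) := Algebra.adjoin A (Rset B₀ p a)

theorem Ra_map {a a' : A} (h : a ∣ a') {z : Lo C a} (hz : z ∈ Ra B₀ p a) :
    gl (AlgHom.id A C) h z ∈ Ra B₀ p a' := by
  have h1 : (Ra B₀ p a).map (gl (AlgHom.id A C) h) ≤ Ra B₀ p a' := by
    rw [Ra, ← Algebra.adjoin_image]
    refine Algebra.adjoin_mono ?_
    rintro _ ⟨z, ⟨E, _, _, φ, u, hE, hφ, rfl⟩, rfl⟩
    refine ⟨E, _, _, (gl (AlgHom.id A C) h).comp φ, u, hE, fun u => ?_, rfl⟩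
    obtain ⟨b, hb⟩ := hφ u
    refine ⟨gl (AlgHom.id A B₀) h b, ?_⟩
    rw [AlgHom.comp_apply, gl_gl, AlgHom.comp_id, gl_gl, AlgHom.comp_id]
    have h2 := congrArg (gl (AlgHom.id A C₀) h) hb
    rw [gl_gl, gl_gl, AlgHom.id_comp, AlgHom.id_comp] at h2
    exact h2
  exact h1 ⟨z, hz, rfl⟩

variable (hJ : ∀ x ∈ J, ∀ y ∈ J, x * y = 0) (hp : Function.Surjective p)
  (hk : RingHom.ker p = J.map (algebraMap A C))

include hk in
/-- The kernel of `Lo C a → Lo C₀ a`. -/
theorem exists_mu_of_gl_eq_zero (a : A) {x : Lo C a} (hx : gl p (dvd_refl a) x = 0) :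
    ∃ (k : ℕ) (t : C ⊗[A] J), a ^ k • x = algebraMap C (Lo C a) (mu J C t) := by
  obtain ⟨l, c, hc⟩ := Lo.exists_smul_eq a x
  have h1 : algebraMap C₀ (Lo C₀ a) (p c) = algebraMap C₀ (Lo C₀ a) 0 := by
    rw [← gl_algebraMap p (dvd_refl a), ← hc, map_smul, hx, smul_zero, map_zero]
  obtain ⟨m, hm⟩ := Lo.exists_of_eq a h1
  have h2 : a ^ m • c ∈ J.map (algebraMap A C) := by
    rw [← hk]
    change p (a ^ m • c) = 0
    rw [map_smul, hm, smul_zero]
  obtain ⟨t, ht⟩ := (mem_range_mu J C).2 h2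
  refine ⟨m + l, t, ?_⟩
  rw [pow_add, mul_smul, hc, Lo.algebraMap_smul', ht]

include hk in
theorem mem_map_of_gl_eq_zero (a : A) {x : Lo C a} (hx : gl p (dvd_refl a) x = 0) :
    x ∈ J.map (algebraMap A (Lo C a)) := by
  obtain ⟨k, t, ht⟩ := exists_mu_of_gl_eq_zero J p hk a hx
  obtain ⟨c, hc⟩ := ((Lo.isUnit (S := C) (dvd_refl a)).pow k).exists_left_inv
  have h1 : algebraMap C (Lo C a) (mu J C t) ∈ J.map (algebraMap A (Lo C a)) := by
    have h2 := Ideal.mem_map_of_mem (algebraMap C (Lo C a)) ((mem_range_mu J C).1 ⟨t, rfl⟩)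
    rwa [Ideal.map_map, ← IsScalarTower.algebraMap_eq] at h2
  rw [← ht, Algebra.smul_def, map_pow] at h1
  have h3 := Ideal.mul_mem_left _ c h1
  rwa [← mul_assoc, hc, one_mul] at h3

include hk in
theorem ker_gl (a : A) : RingHom.ker (gl p (dvd_refl a)) = J.map (algebraMap A (Lo C a)) := by
  apply le_antisymm
  · intro x hx
    exact mem_map_of_gl_eq_zero J p hk a hx
  · rw [Ideal.map_le_iff_le_comap]
    intro j hj
    have h1 : algebraMap A C j ∈ RingHom.ker p := by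
      rw [hk]; exact Ideal.mem_map_of_mem _ hj
    have h2 : p (algebraMap A C j) = 0 := h1
    change gl p (dvd_refl a) (algebraMap A (Lo C a) j) = 0
    rw [IsScalarTower.algebraMap_apply A C (Lo C a), gl_algebraMap, h2, map_zero]

include hJ in
theorem isNilpotent_map {T : Type v} [CommRing T] [Algebra A T] : IsNilpotent (J.map (algebraMap A T)) := by
  refine ⟨2, ?_⟩
  have h1 : J ^ 2 = ⊥ := by
    rw [sq, eq_bot_iff, Ideal.mul_le]
    intro x hx y hy
    rw [hJ x hx y hy]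
    exact zero_mem _
  rw [← Ideal.map_pow, h1, Ideal.map_bot]
  rfl

/-- The étale lift over `D(a)`. -/
structure Loc (a : A) (E : Type u) [CommRing E] [Algebra A E] where
  ρ : E →ₐ[A] Lo B₀ a
  φ : E →ₐ[A] Lo C a
  etale : Algebra.Etale A E
  surj : Function.Surjective ρ
  ker : RingHom.ker ρ = J.map (algebraMap A E)
  comm : ∀ u, gl p (dvd_refl a) (φ u) = gl (ff (C₀ := C₀) B₀) (dvd_refl a) (ρ u)

include hJ hp hk in
theorem exists_loc (a : A) (h : EtLift J (Lo B₀ a)) :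
    ∃ (E : Type u) (_ : CommRing E) (_ : Algebra A E), Nonempty (Loc J B₀ p a E) := by
  obtain ⟨E, _, _, ρ, hE, hρ, hρk⟩ := h
  have hnil : IsNilpotent (RingHom.ker (gl p (dvd_refl a) : Lo C a →+* Lo C₀ a)) := by
    have := isNilpotent_map J hJ (T := Lo C a)
    rw [← ker_gl J p hk a] at this
    exact this
  refine ⟨E, _, _, ⟨⟨ρ, Algebra.FormallySmooth.liftOfSurjective
    ((gl (ff (C₀ := C₀) B₀) (dvd_refl a)).comp ρ) (gl p (dvd_refl a)) (gl_surjective hp a) hnil, hE,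
    hρ, hρk, fun u => ?_⟩⟩⟩
  exact Algebra.FormallySmooth.liftOfSurjective_apply ((gl (ff (C₀ := C₀) B₀) (dvd_refl a)).comp ρ)
    (gl p (dvd_refl a)) (gl_surjective hp a) hnil u

variable {J B₀ p}

theorem ff_injective [FaithfulSMul B₀ C₀] : Function.Injective (ff (A := A) (C₀ := C₀) B₀) :=
  FaithfulSMul.algebraMap_injective B₀ C₀

include hJ hk in
theorem Loc.Ra_eq [FaithfulSMul B₀ C₀] {a : A} {E : Type u} [CommRing E] [Algebra A E] (D : Loc J B₀ p a E) :
    Ra B₀ p a = D.φ.range := by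
  have hnil : IsNilpotent (RingHom.ker (gl p (dvd_refl a) : Lo C a →+* Lo C₀ a)) := by
    have := isNilpotent_map J hJ (T := Lo C a)
    rw [← ker_gl J p hk a] at this
    exact this
  apply le_antisymm
  · rw [Ra, Algebra.adjoin_le_iff]
    rintro _ ⟨E', _, _, φ', u, hE', hφ', rfl⟩
    -- lift `E' → Lo B₀ a`
    have hinj : Function.Injective (gl (ff (C₀ := C₀) B₀) (dvd_refl a)) := gl_injective ff_injective a
    let θ : E' →ₐ[A] Lo B₀ a := (AlgEquiv.ofInjective _ hinj).symm.toAlgHom.comp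
      (((gl p (dvd_refl a)).comp φ').codRestrict (gl (ff (C₀ := C₀) B₀) (dvd_refl a)).range
        (fun u => by
          obtain ⟨b, hb⟩ := hφ' u
          exact ⟨b, hb.symm⟩))
    have hθ : ∀ u, gl (ff (C₀ := C₀) B₀) (dvd_refl a) (θ u) = gl p (dvd_refl a) (φ' u) := by
      intro u
      have h1 := congrArg Subtype.val (AlgEquiv.apply_symm_apply (AlgEquiv.ofInjective _ hinj)
        ((((gl p (dvd_refl a)).comp φ').codRestrict (gl (ff (C₀ := C₀) B₀) (dvd_refl a)).range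
        (fun u => by
          obtain ⟨b, hb⟩ := hφ' u
          exact ⟨b, hb.symm⟩)) u))
      exact h1
    have hnil' : IsNilpotent (RingHom.ker (D.ρ : E →+* Lo B₀ a)) := by
      have := isNilpotent_map J hJ (T := E)
      rw [← D.ker] at this
      exact this
    let g : E' →ₐ[A] E := Algebra.FormallySmooth.liftOfSurjective θ D.ρ D.surj hnil'
    have hg : ∀ u, D.ρ (g u) = θ u := fun u =>
      Algebra.FormallySmooth.liftOfSurjective_apply θ D.ρ D.surj hnil' u
    have h2 : φ' = D.φ.comp g := by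
      refine Algebra.FormallyUnramified.ext' (gl p (dvd_refl a) : Lo C a →+* Lo C₀ a) hnil _ _
        fun x => ?_
      change gl p (dvd_refl a) (φ' x) = gl p (dvd_refl a) (D.φ (g x))
      rw [D.comm, hg, hθ]
    rw [h2]
    exact ⟨g u, rfl⟩
  · rintro _ ⟨u, rfl⟩
    exact Algebra.subset_adjoin ⟨E, _, _, D.φ, u, D.etale, fun u => ⟨D.ρ u, D.comm u⟩, rfl⟩

include hJ hk in
/-- Elements of `Ra` which vanish modulo `J` come from `Nn`, up to a power of `a`. -/
theorem Loc.exists_Nn [FaithfulSMul B₀ C₀] {a : A} {E : Type u} [CommRing E] [Algebra A E]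
    (hp : Function.Surjective p) (D : Loc J B₀ p a E) {z : Lo C a} (hz : z ∈ Ra B₀ p a)
    (hz0 : gl p (dvd_refl a) z = 0) :
    ∃ (k : ℕ) (t : C ⊗[A] J), t ∈ Nn J B₀ p ∧ a ^ k • z = algebraMap C (Lo C a) (mu J C t) := by
  rw [D.Ra_eq hJ hk] at hz
  obtain ⟨u, rfl⟩ := hz
  have hinj : Function.Injective (gl (ff (C₀ := C₀) B₀) (dvd_refl a)) := gl_injective ff_injective a
  have h1 : D.ρ u = 0 := hinj (by
    rw [← D.comm, map_zero]
    exact hz0)
  have h2 : u ∈ J.map (algebraMap A E) := by rw [← D.ker]; exact h1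
  obtain ⟨w, rfl⟩ := (mem_range_mu J E).2 h2
  clear h1 h2 hz0
  change ∃ (k : ℕ) (t : C ⊗[A] J), t ∈ Nn J B₀ p ∧ a ^ k • D.φ (mu J E w) = _
  induction w with
  | zero => exact ⟨0, 0, zero_mem _, by simp⟩
  | add x y hx hy =>
    obtain ⟨k, t, ht, hkt⟩ := hx
    obtain ⟨k', t', ht', hkt'⟩ := hy
    refine ⟨k + k', a ^ k' • t + a ^ k • t', add_mem (Submodule.smul_mem _ _ ht)
      (Submodule.smul_mem _ _ ht'), ?_⟩
    rw [map_add, map_add, smul_add, map_add, map_add, (mu J C).map_smul, (mu J C).map_smul,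
      ← Lo.algebraMap_smul', ← Lo.algebraMap_smul', ← hkt, ← hkt', smul_smul, smul_smul, ← pow_add, ← pow_add,
      Nat.add_comm k' k]
  | tmul e j =>
    obtain ⟨k, b, hb⟩ := Lo.exists_smul_eq a (D.ρ e)
    obtain ⟨c, hc⟩ := hp (algebraMap B₀ C₀ b)
    have h3 : gl p (dvd_refl a) (a ^ k • D.φ e - algebraMap C (Lo C a) c) = 0 := by
      rw [map_sub, map_smul, D.comm, ← map_smul, hb, gl_algebraMap, gl_algebraMap, hc, sub_eq_zero]
      rfl
    have h4 := mul_mu_eq_zero J hJ j.2 (mem_map_of_gl_eq_zero J p hk a h3)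
    refine ⟨k, c ⊗ₜ[A] j, mem_Nn_of_eq J B₀ p hc j, ?_⟩
    rw [mu_tmul, mu_tmul, map_smul, smul_comm, ← Lo.algebraMap_smul', ← sub_eq_zero, ← smul_sub]
    exact h4

include hJ hk in
/-- Elements of `Nn` give elements of `Ra`. -/
theorem Loc.mu_mem [FaithfulSMul B₀ C₀] {a : A} {E : Type u} [CommRing E] [Algebra A E]
    (hp : Function.Surjective p) (D : Loc J B₀ p a E) {t : C ⊗[A] J} (ht : t ∈ Nn J B₀ p) :
    algebraMap C (Lo C a) (mu J C t) ∈ Ra B₀ p a := by
  rw [D.Ra_eq hJ hk]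
  let B' : Subalgebra A C := (ff (A := A) (C₀ := C₀) B₀).range.comap p
  obtain ⟨s, rfl⟩ := exists_of_mem_Nn J B₀ p hJ hp hk B' (fun b₀ => by
    obtain ⟨c, hc⟩ := hp (algebraMap B₀ C₀ b₀)
    exact ⟨c, ⟨b₀, hc.symm⟩, hc⟩) ht
  clear ht
  induction s with
  | zero => simp
  | add x y hx hy => rw [map_add, map_add, map_add]; exact add_mem hx hy
  | tmul e j =>
    obtain ⟨e, b, hb⟩ := e
    obtain ⟨u, hu⟩ := D.surj (algebraMap B₀ _ b)
    have hb' : algebraMap B₀ C₀ b = p e := hb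
    have h1 : gl p (dvd_refl a) (algebraMap C (Lo C a) e - D.φ u) = 0 := by
      rw [map_sub, D.comm, hu, gl_algebraMap, gl_algebraMap, ← hb', sub_eq_zero]
      rfl
    have h2 := mul_mu_eq_zero J hJ j.2 (mem_map_of_gl_eq_zero J p hk a h1)
    rw [smul_sub, sub_eq_zero] at h2
    refine ⟨(j : A) • u, ?_⟩
    change D.φ ((j : A) • u) = _
    rw [map_smul, ← h2]
    simp [Lo.algebraMap_smul']

include hJ hk in
/-- `Ra` is stable under division by `a`. -/
theorem Loc.mem_of_pow [FaithfulSMul B₀ C₀] {a : A} {E : Type u} [CommRing E] [Algebra A E]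
    (D : Loc J B₀ p a E) {z : Lo C a} (k : ℕ) (hz : a ^ k • z ∈ Ra B₀ p a) : z ∈ Ra B₀ p a := by
  rw [D.Ra_eq hJ hk] at hz ⊢
  obtain ⟨u, hu⟩ := hz
  have hunit : IsUnit (algebraMap A E a) := by
    obtain ⟨c, hc⟩ := (Lo.isUnit (S := B₀) (dvd_refl a)).exists_left_inv
    obtain ⟨v, rfl⟩ := D.surj c
    have h1 : v * algebraMap A E a - 1 ∈ J.map (algebraMap A E) := by
      rw [← D.ker]
      change D.ρ (v * algebraMap A E a - 1) = 0
      rw [map_sub, map_mul, AlgHom.commutes, hc, map_one, sub_self]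
    have h2 : IsNilpotent (v * algebraMap A E a - 1) := by
      obtain ⟨n, hn⟩ := isNilpotent_map J hJ (T := E)
      refine ⟨n, ?_⟩
      have := Ideal.pow_mem_pow h1 n
      rw [hn] at this
      exact this
    have h3 : IsUnit (v * algebraMap A E a) := by
      have := h2.isUnit_one_add
      rwa [add_sub_cancel] at this
    exact isUnit_of_mul_isUnit_right h3
  obtain ⟨c, hc⟩ := (hunit.pow k).exists_left_inv
  refine ⟨c * u, Lo.smul_cancel (dvd_refl a) k ?_⟩
  change a ^ k • D.φ (c * u) = _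
  have hu' : D.φ u = a ^ k • z := hu
  rw [← hu', ← map_smul]
  congr 1
  rw [Algebra.smul_def, ← mul_assoc, map_pow, mul_comm _ c, hc, one_mul]

end K73.SqRa
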