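import Groth.Agent.AdicRing.K73.SqGlue
import Mathlib.RingTheory.Localization.BaseChange
/-!
# `Lo S a ⊗ J` is the localization of `S ⊗ J`
-/

set_option autoImplicit false
universe u v w
open TensorProduct K73.SqLoc K73.Excis K73.SqCore

namespace K73.SqTors

variable {A : Type u} [CommRing A] (J : Ideal A)

/-- The localization map as an `A`-algebra map. -/
noncomputable abbrev lm (S : Type v) [CommRing S] [Algebra A S] (a : A) : S →ₐ[A] Lo S a :=
  IsScalarTower.toAlgHom A S (Lo S a)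

variable {S : Type v} [CommRing S] [Algebra A S] {T : Type w} [CommRing T] [Algebra A T]

theorem exists_smul_eq_tj (a : A) (t : Lo S a ⊗[A] J) :
    ∃ (k : ℕ) (s : S ⊗[A] J), a ^ k • t = tj J (lm S a) s := by
  induction t with
  | zero => exact ⟨0, 0, by simp⟩
  | add x y hx hy =>
    obtain ⟨k, s, hs⟩ := hx
    obtain ⟨k', s', hs'⟩ := hy
    refine ⟨k + k', a ^ k' • s + a ^ k • s', ?_⟩
    rw [smul_add, map_add, map_smul, map_smul, ← hs, ← hs', smul_smul, smul_smul, ← pow_add,
      ← pow_add, Nat.add_comm k' k]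
  | tmul x j =>
    obtain ⟨k, s, hs⟩ := Lo.exists_smul_eq a x
    refine ⟨k, s ⊗ₜ[A] j, ?_⟩
    rw [TensorProduct.smul_tmul', hs]
    rfl

theorem exists_pow_smul_eq_zero (a : A) {s : S ⊗[A] J} (hs : tj J (lm S a) s = 0) :
    ∃ k : ℕ, a ^ k • s = 0 := by
  have h1 : IsLocalizedModule (Submonoid.powers (algebraMap A S a))
      (Algebra.linearMap S (Lo S a)) := by
    rw [isLocalizedModule_iff_isLocalization']
    infer_instance
  have h2 : IsLocalizedModule (Submonoid.powers (algebraMap A S a))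
      (TensorProduct.AlgebraTensorModule.rTensor A J (Algebra.linearMap S (Lo S a))) :=
    IsLocalizedModule.rTensor _ _ _
  have h3 := (IsLocalizedModule.eq_zero_iff (Submonoid.powers (algebraMap A S a))
    (f := TensorProduct.AlgebraTensorModule.rTensor A J (Algebra.linearMap S (Lo S a))) (m := s)).1 hs
  obtain ⟨⟨_, k, rfl⟩, hk⟩ := h3
  refine ⟨k, ?_⟩
  have h4 : (algebraMap A S a) ^ k • s = 0 := hk
  rwa [← map_pow, algebraMap_smul] at h4

theorem Lo_smul_cancel (a : A) (k : ℕ) {t : Lo S a ⊗[A] J} (h : a ^ k • t = 0) : t = 0 := by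
  obtain ⟨c, hc⟩ := ((Lo.isUnit (S := S) (dvd_refl a)).pow k).exists_left_inv
  rw [← algebraMap_smul (Lo S a) (a ^ k) t, map_pow] at h
  have h1 := congrArg (fun z => c • z) h
  simp only [smul_zero, smul_smul, hc, one_smul] at h1
  exact h1

/-- `Lo S a ⊗ J → Lo S a` is injective when the kernel of `S ⊗ J → S` is `a`-torsion. -/
theorem mu_Lo_injective (a : A) (h : ∀ t : S ⊗[A] J, mu J S t = 0 → ∃ k : ℕ, a ^ k • t = 0) :
    Function.Injective (mu J (Lo S a)) := by
  rw [injective_iff_map_eq_zero]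
  intro t ht
  obtain ⟨k, s, hs⟩ := exists_smul_eq_tj J a t
  have h1 : algebraMap S (Lo S a) (mu J S s) = algebraMap S (Lo S a) 0 := by
    have h2 := mu_tj J (lm S a) s
    rw [← hs, map_smul, ht, smul_zero] at h2
    rw [map_zero]
    exact h2.symm
  obtain ⟨l, hl⟩ := Lo.exists_of_eq a h1
  obtain ⟨m, hm⟩ := h (a ^ l • s) (by rw [map_smul, hl, smul_zero])
  refine Lo_smul_cancel J a (m + l + k) ?_
  rw [pow_add, mul_smul, hs, ← map_smul, pow_add, mul_smul, hm, map_zero]

/-- Injectivity of `g ⊗ J` localizes. -/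
theorem tj_gl_injective (a : A) {g : S →ₐ[A] T} (h : Function.Injective (tj J g)) :
    Function.Injective (tj J (gl g (dvd_refl a))) := by
  rw [injective_iff_map_eq_zero]
  intro t ht
  obtain ⟨k, s, hs⟩ := exists_smul_eq_tj J a t
  have h1 : ∀ s : S ⊗[A] J, tj J (gl g (dvd_refl a)) (tj J (lm S a) s) = tj J (lm T a) (tj J g s) := by
    intro s
    induction s with
    | zero => simp
    | add x y hx hy => simp only [map_add, hx, hy]
    | tmul x j =>
      simp only [LinearMap.rTensor_tmul, AlgHom.toLinearMap_apply]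
      congr 1
      exact gl_algebraMap g (dvd_refl a) x
  have h2 : tj J (lm T a) (tj J g s) = 0 := by
    rw [← h1, ← hs, map_smul, ht, smul_zero]
  obtain ⟨l, hl⟩ := exists_pow_smul_eq_zero J a h2
  rw [← map_smul] at hl
  have h3 : a ^ l • s = 0 := h (by rw [hl, map_zero])
  refine Lo_smul_cancel J a (l + k) ?_
  rw [pow_add, mul_smul, hs, ← map_smul, h3, map_zero]

/-- `B₀ ⊗ J → C₀ ⊗ J` is injective for `B₀ → C₀` faithfully flat. -/
theorem tj_ff_injective {C₀ B₀ : Type u} [CommRing C₀] [Algebra A C₀] [CommRing B₀] [Algebra A B₀]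
    [Algebra B₀ C₀] [IsScalarTower A B₀ C₀] [Module.FaithfullyFlat B₀ C₀] :
    Function.Injective (tj J (ff (A := A) (C₀ := C₀) B₀)) := by
  intro x y hxy
  have h1 : (1 : C₀) ⊗ₜ[B₀] x = (1 : C₀) ⊗ₜ[B₀] y := by
    apply (cb (C₀ := C₀) J B₀).injective
    rw [cb_one_tmul, cb_one_tmul, hxy]
  exact Module.FaithfullyFlat.tensorProduct_mk_injective (A := B₀) (B := C₀) _ h1

end K73.SqTors
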